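import Mathlib.LinearAlgebra.Matrix.ToLinearEquiv
import Mathlib.Tactic

/-!
Linear algebra for negative definite intersection matrices.
-/

set_option autoImplicit false

namespace K479.ArtinNum

open Matrix Finset

/-- For a negative definite integral matrix with nonnegative off-diagonal entries and a positive
vector `h`, a positive multiple of `h` is cancelled by a positive integral vector. -/
theorem exists_pos_solution {r : ℕ} (B : Fin r → Fin r → ℤ)
    (hneg : ∀ a : Fin r → ℤ, a ≠ 0 →
      (Finset.univ : Finset (Fin r × Fin r)).sum (fun p => a p.1 * a p.2 * B p.1 p.2) < 0)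
    (hoff : ∀ i j, i ≠ j → 0 ≤ B i j) (h : Fin r → ℤ) (hh : ∀ i, 0 < h i) :
    ∃ (n : ℕ) (a : Fin r → ℕ), 0 < n ∧ (∀ j, 0 < a j) ∧
      ∀ i, (n : ℤ) * h i + ∑ j, (a j : ℤ) * B i j = 0 := by
  classical
  let M : Matrix (Fin r) (Fin r) ℤ := Matrix.of B
  have hq : ∀ a : Fin r → ℤ, a ≠ 0 → a ⬝ᵥ (M *ᵥ a) < 0 := by
    intro a ha
    have h1 := hneg a ha
    rw [← Finset.univ_product_univ, Finset.sum_product] at h1
    convert h1 using 1
    simp only [dotProduct, mulVec, M, Matrix.of_apply]
    refine Finset.sum_congr rfl fun i _ => ?_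
    rw [Finset.mul_sum]
    refine Finset.sum_congr rfl fun j _ => ?_
    ring
  have hdet : M.det ≠ 0 := by
    intro h0
    obtain ⟨v, hv, hv0⟩ := Matrix.exists_mulVec_eq_zero_iff.2 h0
    have h1 := hq v hv
    rw [hv0, dotProduct_zero] at h1
    exact lt_irrefl _ h1
  let a' : Fin r → ℤ := -(M.det.sign • (M.adjugate *ᵥ h))
  have ha' : M *ᵥ a' = -((M.det.natAbs : ℤ) • h) := by
    simp only [a']
    rw [mulVec_neg, mulVec_smul, mulVec_mulVec, Matrix.mul_adjugate, smul_mulVec, one_mulVec, smul_smul,
      Int.sign_mul_self_eq_abs, Int.abs_eq_natAbs]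
  have hn : 0 < M.det.natAbs := Int.natAbs_pos.2 hdet
  have hi : ∀ i, ∑ j, B i j * a' j = -((M.det.natAbs : ℤ) * h i) := by
    intro i
    have h1 := congrFun ha' i
    simpa [mulVec, dotProduct, M] using h1
  -- nonnegativity
  have hnn : ∀ j, 0 ≤ a' j := by
    by_contra hcon
    push Not at hcon
    obtain ⟨j₀, hj₀⟩ := hcon
    let b : Fin r → ℤ := fun j => max (-a' j) 0
    have hb0 : ∀ j, 0 ≤ b j := fun j => le_max_right _ _
    have hbne : b ≠ 0 := by
      intro h0
      have h1 := congrFun h0 j₀
      simp only [b, Pi.zero_apply] at h1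
      have h2 := le_max_left (-a' j₀) 0
      omega
    have h1 := hq b hbne
    have h2 : b ⬝ᵥ (M *ᵥ a') ≤ 0 := by
      rw [ha', dotProduct_neg]
      have h3 : 0 ≤ b ⬝ᵥ ((M.det.natAbs : ℤ) • h) := by
        refine Finset.sum_nonneg fun i _ => mul_nonneg (hb0 i) ?_
        simp only [Pi.smul_apply, smul_eq_mul]
        exact mul_nonneg (by positivity) (hh i).le
      linarith
    have h3 : 0 ≤ b ⬝ᵥ (M *ᵥ (a' + b)) := by
      simp only [dotProduct, mulVec, M, Matrix.of_apply]
      refine Finset.sum_nonneg fun i _ => ?_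
      rw [Finset.mul_sum]
      refine Finset.sum_nonneg fun j _ => ?_
      have hab : 0 ≤ (a' + b) j := by
        simp only [Pi.add_apply, b]
        have := le_max_left (-a' j) 0
        omega
      by_cases hij : i = j
      · subst hij
        by_cases hbi : b i = 0
        · rw [hbi]; simp
        · have h4 : (a' + b) i = 0 := by
            simp only [Pi.add_apply, b] at hbi ⊢
            rcases max_choice (-a' i) 0 with h5 | h5
            · rw [h5]; ring
            · exact absurd h5 hbi
          rw [h4]; simp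
      · exact mul_nonneg (hb0 i) (mul_nonneg (hoff i j hij) hab)
    rw [mulVec_add, dotProduct_add] at h3
    linarith
  have hpos : ∀ j, 0 < a' j := by
    intro i
    rcases (hnn i).lt_or_eq with h1 | h1
    · exact h1
    · exfalso
      have h2 := hi i
      have h3 : 0 ≤ ∑ j, B i j * a' j := by
        refine Finset.sum_nonneg fun j _ => ?_
        by_cases hij : i = j
        · subst hij; rw [← h1, mul_zero]
        · exact mul_nonneg (hoff i j hij) (hnn j)
      have h4 : 0 < (M.det.natAbs : ℤ) * h i := mul_pos (by exact_mod_cast hn) (hh i)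
      omega
  refine ⟨M.det.natAbs, fun j => (a' j).toNat, hn, fun j => by
    have := hpos j
    show 0 < (a' j).toNat
    omega, fun i => ?_⟩
  have h1 : ∑ j, (((a' j).toNat : ℕ) : ℤ) * B i j = ∑ j, B i j * a' j :=
    Finset.sum_congr rfl fun j _ => by rw [Int.toNat_of_nonneg (hnn j), mul_comm]
  rw [h1, hi i]
  ring

end K479.ArtinNum
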