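import Groth.Agent.ArSurf.K479.Contr
import Groth.Agent.Models.H54.HorCartier
import Groth.Agent.ArSurf.K480.SurfDim

/-!
The generic fibre of a proper flat integral two-dimensional scheme over a discrete valuation ring is
an integral scheme of dimension one.
-/

set_option autoImplicit false
universe u
open AlgebraicGeometry CategoryTheory CategoryTheory.Limits IsLocalRing TopologicalSpace

namespace K479.GenDim

open Groth.Agent Groth.Agent.Dix Groth.Agent.Dix.GenFibre Groth.Agent.Dix.FlatMonoStalk

theorem isIntegral_genericFibre {R : Type u} [CommRing R] [IsDomain R]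
    (X : Over (Spec (CommRingCat.of R))) [IsIntegral X.left] [Flat X.hom] :
    IsIntegral ((Neron.genericFibre R).obj X).left := by
  have h1 : IsReduced ((Neron.genericFibre R).obj X).left := by
    have : ∀ z : ((Neron.genericFibre R).obj X).left,
        _root_.IsReduced (((Neron.genericFibre R).obj X).left.presheaf.stalk z) := fun z => by
      have h6 := isIso_stalkMap_of_flat_of_mono (genι X) z
      exact isReduced_of_injective (inv ((genι X).stalkMap z)).hom
        (asIso ((genι X).stalkMap z)).commRingCatIsoToRingEquiv.symm.injective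
    exact isReduced_of_isReduced_stalk _
  obtain ⟨z, hz⟩ := exists_genι_eq X (genericPoint X.left) (asIdeal_hom_genericPoint X)
  have h2 : ∀ w, z ⤳ w := fun w => by
    rw [← (genι X).isEmbedding.specializes_iff, hz]
    exact (genericPoint_spec X.left).specializes trivial
  have h3 : IrreducibleSpace ((Neron.genericFibre R).obj X).left := by
    have h4 : closure {z} = (Set.univ : Set ((Neron.genericFibre R).obj X).left) :=
      Set.eq_univ_of_forall fun w => specializes_iff_mem_closure.1 (h2 w)
    have h5 : IsIrreducible (closure {z}) := isIrreducible_singleton.closure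
    rw [h4] at h5
    exact { isPreirreducible_univ := h5.2, toNonempty := ⟨z⟩ }
  exact isIntegral_of_irreducibleSpace_of_isReduced _

variable {R : Type u} [CommRing R] [IsDomain R] [IsDiscreteValuationRing R]

/-- There is a point of the generic fibre other than the generic point. -/
theorem exists_ne (X : Over (Spec (CommRingCat.of R))) [IsIntegral X.left] [Flat X.hom] [IsProper X.hom]
    (hdim : topologicalKrullDim X.left = 2) :
    ∃ z : X.left, (X.hom z).asIdeal = ⊥ ∧ z ≠ genericPoint X.left := by
  have hN : IsLocallyNoetherian X.left := LocallyOfFiniteType.isLocallyNoetherian X.hom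
  have hc : CompactSpace X.left := QuasiCompact.compactSpace_of_compactSpace X.hom
  obtain ⟨y, -, hy⟩ := Contr.exists_specializes_closed (genericPoint X.left)
  obtain ⟨x, hx, hxc⟩ := IsClosed.exists_closed_singleton (X := X.left)
    (S := X.hom ⁻¹' {closedPoint R}) (Contr.isClosed_closedPoint.preimage X.hom.continuous) ⟨y, hy⟩
  have hx' : X.hom x = closedPoint R := hx
  obtain ⟨ζ, -, h1, h2⟩ := Groth.Agent.Models.H54.HorCartier.exists_horizontal X x
    (K480.SurfDim.ringKrullDim_stalk_eq_two hdim x hxc (by rw [hx']; exact Contr.asIdeal_closedPoint_ne))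
  refine ⟨ζ, (Contr.asIdeal_eq_bot_or _).resolve_right h2, ?_⟩
  rintro rfl
  have h3 : ringKrullDim (X.left.presheaf.stalk (genericPoint X.left)) = 0 :=
    ringKrullDim_eq_zero_of_field X.left.functionField
  rw [h3] at h1
  exact absurd h1 (by decide)

theorem topologicalKrullDim_genericFibre (X : Over (Spec (CommRingCat.of R))) [IsIntegral X.left]
    [Flat X.hom] [IsProper X.hom] (hdim : topologicalKrullDim X.left = 2) :
    topologicalKrullDim ((Neron.genericFibre R).obj X).left = 1 := by
  rw [CurvesB.DimOneTop.topologicalKrullDim_eq_one_iff]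
  obtain ⟨y, hy, hy'⟩ := exists_ne X hdim
  obtain ⟨z, hz⟩ := exists_genι_eq X (genericPoint X.left) (asIdeal_hom_genericPoint X)
  obtain ⟨w, rfl⟩ := exists_genι_eq X y hy
  have h2 : ∀ w, z ⤳ w := fun w => by
    rw [← (genι X).isEmbedding.specializes_iff, hz]
    exact (genericPoint_spec X.left).specializes trivial
  refine ⟨⟨z, w, h2 w, ?_⟩, ?_⟩
  · rintro rfl
    exact hy' hz
  · intro x
    by_contra hcon
    push Not at hcon
    obtain ⟨⟨a, ha, ha'⟩, ⟨b, hb, hb'⟩⟩ := hcon
    apply ha'
    have h3 := Contr.eq_genericPoint_of_pair hdim.le (ha.map (genι X).continuous)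
      (fun h => ha' ((genι X).isEmbedding.injective h).symm) (genι_mem X a)
    rw [← hz] at h3
    have h4 : x = z := (genι X).isEmbedding.injective h3
    subst h4
    exact absurd (hb.antisymm (h2 b)).eq hb'

end K479.GenDim
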