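import Groth.Agent.ArSurf.K479.SecTriv
import Groth.Agent.ArSurf.K479.ArtinNum
import Groth.Agent.ArSurf.K479.GenDim
import Groth.Agent.Dix.CastAmple
import Groth.Agent.Dix.CastLift
import Groth.Agent.Dix.Cast5
import Groth.Agent.Models.H65.PicDeg
import Groth.Agent.Models.H65.GenTriv
import Groth.Agent.Models.H50.InterNonneg
import Groth.Agent.Divis.NormAmple
import Groth.Agent.CohqB.AmpGeneric
import Groth.Agent.CycB.DegCurve
import Groth.Agent.S1530

/-!
# Artin contraction: construction of the module and its sections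
-/

set_option autoImplicit false
set_option backward.isDefEq.respectTransparency false
universe u
open AlgebraicGeometry CategoryTheory CategoryTheory.Limits TopologicalSpace

namespace K479.Artin

open Groth.Agent Groth.Agent.Dix Groth.Agent.Fdesc.LocGen Groth.Agent.Grpsch.PicGrp
open Groth.Agent.Dix.CastPic Groth.Agent.Dix.IdealModCartier Groth.Agent.Divis.EffCartier

section General

variable {X : Scheme.{u}}

/-- The class of the ideal of an effective Cartier divisor. -/
noncomputable def ic (D : X.IdealSheafData) (hD : BlowUp.IsEffCartierIdeal D) : Pic X :=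
  mk (ClSub.idealMod D) (isInvertible_idealMod hD)

theorem ic_mul {D E : X.IdealSheafData} (hD : BlowUp.IsEffCartierIdeal D)
    (hE : BlowUp.IsEffCartierIdeal E) (hDE : BlowUp.IsEffCartierIdeal (D * E)) :
    ic (D * E) hDE = ic D hD * ic E hE := by
  obtain ⟨e⟩ := idealMod_mul hD hE
  rw [ic, ic, ic, mk_mul_mk, mk_eq_iff]
  exact ⟨e.symm⟩

theorem ic_one (h : BlowUp.IsEffCartierIdeal (1 : X.IdealSheafData)) : ic 1 h = 1 := by
  rw [ic, mk_eq_one_iff]
  exact Models.H65.GenTriv.idealMod_top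

theorem ic_congr {D E : X.IdealSheafData} (e : D = E) (hD : BlowUp.IsEffCartierIdeal D)
    (hE : BlowUp.IsEffCartierIdeal E) : ic D hD = ic E hE := by subst e; rfl

theorem ic_pow {D : X.IdealSheafData} (hD : BlowUp.IsEffCartierIdeal D) (n : ℕ) :
    ∀ h : BlowUp.IsEffCartierIdeal (D ^ n), ic (D ^ n) h = ic D hD ^ n := by
  induction n with
  | zero =>
    intro h
    rw [pow_zero (ic D hD), ← ic_one isEff_top]
    exact ic_congr (pow_zero D) _ _
  | succ n ih =>
    intro h
    have h1 := ic_mul (isEff_pow hD n) hD (isEff_mul (isEff_pow hD n) hD)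
    rw [ih] at h1
    rw [pow_succ (ic D hD), ← h1]
    exact ic_congr (pow_succ D n) _ _

theorem ic_prod {ι : Type*} (P : ι → X.IdealSheafData) (hP : ∀ i, BlowUp.IsEffCartierIdeal (P i))
    (d : ι → ℕ) (S : Finset ι) : ∀ (D : X.IdealSheafData) (_ : D = ∏ i ∈ S, P i ^ d i)
      (h : BlowUp.IsEffCartierIdeal D), ic D h = ∏ i ∈ S, ic (P i) (hP i) ^ d i := by
  classical
  induction S using Finset.induction_on with
  | empty =>
    intro D e h
    rw [Finset.prod_empty, ← ic_one isEff_top]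
    exact ic_congr (e.trans Finset.prod_empty) _ _
  | insert t S htS ih =>
    intro D e h
    rw [Finset.prod_insert htS] at e
    subst e
    rw [Finset.prod_insert htS, ic_mul (isEff_pow (hP t) (d t)) (IdealQuot.isEff_prod P hP S d) h,
      ih _ rfl, ic_pow (hP t)]

/-- A section generating along a divisor. -/
theorem exists_gen {Z : Scheme.{u}} (ι : Z ⟶ X) [IsClosedImmersion ι]
    (heff : BlowUp.IsEffCartierIdeal ι.ker) (M : X.Modules)
    (hM : PicF.IsInvertible M) (h : V1 (mk M hM * idc ι heff)) (h1 : pull ι (mk M hM) = 1) :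
    ∃ t : Coh.structureModule X ⟶ M, Set.range ι ⊆ (CohB1.genLocus M t : Set X) := by
  rw [pull_mk, mk_eq_one_iff] at h1
  obtain ⟨e⟩ := h1
  obtain ⟨t, ht⟩ : ∃ t : Γ(M, ⊤), pullTop ι t = e.inv.app ⊤ (one ⊤) := by
    refine Cast1.wp1_lift ι M hM ?_ _
    rw [mul_comm, idc, mk_mul_mk, V1_mk] at h
    exact h
  refine ⟨homOf t, ?_⟩
  rintro _ ⟨x, rfl⟩
  have h2 : x ∈ ι ⁻¹ᵁ CohB1.genLocus M (homOf t) := by
    rw [← Groth.Agent.Ega1.AmpFam.genLocus_pullHom ι hM, pullHom, sec_homOf, res_refl, ht,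
      mem_genLocus_iff]
    refine ⟨⊤, trivial, ?_⟩
    rw [sec_homOf, res_refl]
    exact (isGen_one ⊤).app e.inv
  exact h2

/-- Choice of a very positive ample module. -/
theorem exists_H {R : Type u} [CommRing R] [IsNoetherianRing R]
    (p : X ⟶ Spec (CommRingCat.of R)) [IsProper p] {A : X.Modules} (hA : CohB1.IsAmple A)
    {M' : X.Modules} (hM' : PicF.IsInvertible M') :
    ∃ (H : X.Modules) (hH : CohB1.IsAmple H) (J : Type u) (_ : Finite J)
      (σ : J → (Coh.structureModule X ⟶ H)),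
      (∀ n, 1 ≤ n → V1 (mk H hH.1 ^ n)) ∧ (∀ n, 1 ≤ n → V1 (mk M' hM' * mk H hH.1 ^ n)) ∧
      (∀ j, IsAffineOpen (CohB1.genLocus H (σ j))) ∧ ⨆ j, CohB1.genLocus H (σ j) = ⊤ := by
  have hX : IsLocallyNoetherian X := LocallyOfFiniteType.isLocallyNoetherian p
  obtain ⟨d, J, hJ, s, hs, hcov⟩ := Groth.Agent.Ega2.SecCalc.exists_common_cover hA
  obtain ⟨n₀, hn₀⟩ := CastAmple.exists_V1 p hA
  obtain ⟨n₁, hn₁⟩ := (Groth.Agent.S0051.result R X p A hA.1).1 hA M'
    (PerfA.CohSerre.isCoh_of_isFinLocFree (Groth.Agent.CycB.DegCurve.isFinLocFree_of_isInvertible hM'))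
  let r : ℕ := n₀ + n₁ + 1
  have hge : n₀ + n₁ + 1 ≤ (d + 1) * r := Nat.le_mul_of_pos_left r (Nat.succ_pos d)
  have hmk : mk (CohB1.tensorPow A ((d + 1) * r)) (isInvertible_tensorPow hA.1 _) =
      mk A hA.1 ^ ((d + 1) * r) := mk_tensorPow hA.1 _
  refine ⟨CohB1.tensorPow A ((d + 1) * r), Divis.NormAmple.isAmple_tensorPow hA (by omega), J, hJ,
    fun j => Groth.Agent.Ega2.SecCalc.powSec (s j) r, ?_, ?_, ?_, ?_⟩
  · intro n hn
    rw [hmk, ← pow_mul]
    refine hn₀ _ ?_
    calc n₀ ≤ (d + 1) * r := by omega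
      _ ≤ (d + 1) * r * n := Nat.le_mul_of_pos_right _ (by omega)
  · intro n hn
    have hle : n₁ ≤ (d + 1) * r * n :=
      (show n₁ ≤ (d + 1) * r by omega).trans (Nat.le_mul_of_pos_right _ (by omega))
    have h1 := hn₁ _ hle 1 one_pos
    have h2 := (V1_mk (isInvertible_tensorMod hM' (isInvertible_tensorPow hA.1 _))).2 h1
    rw [← mk_mul_mk hM' (isInvertible_tensorPow hA.1 _), mk_tensorPow] at h2
    rw [hmk, ← pow_mul]
    exact h2
  · intro j
    rw [Groth.Agent.Ega2.SecCalc.genLocus_powSec hA.1 (s j) (by omega)]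
    exact hs j
  · rw [← hcov]
    congr 1
    funext j
    exact Groth.Agent.Ega2.SecCalc.genLocus_powSec hA.1 (s j) (by omega)

end General

section Vert

variable {R : Type u} [CommRing R] [IsDomain R] [IsDiscreteValuationRing R]
variable {X : Over (Spec (CommRingCat.of R))}

theorem notMem_support (E Γ : ArSurf.VertComp R X)
    (h : Set.range (E.ι.base : E.curve.left → X.left) ≠ Set.range (Γ.ι.base : Γ.curve.left → X.left)) :
    E.ι (genericPoint E.curve.left) ∉ Γ.ι.ker.support := by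
  intro h0
  apply h
  have h1 : E.ι.ker = Γ.ι.ker := VertGeom.ker_eq_of_mem E.ι Γ.ι E.dim_eq Γ.dim_eq h0
  ext x
  have h2 := VertGeom.mem_support_ker_iff E.ι x
  have h3 := VertGeom.mem_support_ker_iff Γ.ι x
  rw [h1] at h2
  exact h2.symm.trans h3

variable [IsProper X.hom]

theorem inter_nonneg (E Γ : ArSurf.VertComp R X)
    (h : Set.range (E.ι.base : E.curve.left → X.left) ≠ Set.range (Γ.ι.base : Γ.curve.left → X.left))
    {L : X.left.Modules} (hL : ClSub.IsInverseOf L (ClSub.idealMod Γ.ι.ker)) :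
    0 ≤ ArSurf.inter R X L E :=
  (Models.H50.InterNonneg.inter_nonneg_and_eq_zero_iff E Γ
    (isEffCartierIdeal_of_isInverseOf hL) (notMem_support E Γ h) hL).1

theorem inter_pos (E : ArSurf.VertComp R X) {H : X.left.Modules} (hH : CohB1.IsAmple H) :
    0 < ArSurf.inter R X H E := by
  have h1 := Models.H65.PicDeg.isProper_curve E
  rw [Models.H65.PicDeg.inter_eq]
  exact (S1530.result _ _ E.dim_eq _ (isInvertible_pullback E.ι hH.1)).1
    (Groth.Agent.CohqB.AmpCocycle.isAmple_pullback E.ι hH)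

end Vert

end K479.Artin
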