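import Groth.Agent.ArSurf.K479.Artin
import Groth.Agent.Models.H65.InterProper

/-!
# Artin contraction: the module of degree zero on the contracted curves
-/

set_option autoImplicit false
set_option backward.isDefEq.respectTransparency false
universe u
open AlgebraicGeometry CategoryTheory CategoryTheory.Limits TopologicalSpace

namespace K479.ArtinData

open Groth.Agent Groth.Agent.Dix Groth.Agent.Fdesc.LocGen Groth.Agent.Grpsch.PicGrp
open Groth.Agent.Dix.CastPic Groth.Agent.Dix.IdealModCartier Groth.Agent.Divis.EffCartier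
open Groth.Agent.Models.H65.PicDeg Artin

variable {R : Type u} [CommRing R] [IsDomain R] [IsDiscreteValuationRing R]
variable {X : Over (Spec (CommRingCat.of R))}

/-- Restriction to a component through an intermediate scheme. -/
theorem curveDeg_comp (Γ : ArSurf.VertComp R X) {Z : Scheme.{u}} (z : Z ⟶ X.left)
    (g : Γ.curve.left ⟶ Z) (hg : g ≫ z = Γ.ι) (N : X.left.Modules) :
    ArSurf.curveDeg (IsLocalRing.ResidueField R) Γ.curve.left
      ((Scheme.Modules.pullback g).obj ((Scheme.Modules.pullback z).obj N)) =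
      ArSurf.inter R X N Γ :=
  Cast0.curveDeg_congr _ ((Scheme.Modules.pullbackComp g z).app N ≪≫
    (Scheme.Modules.pullbackCongr hg).app N)

theorem deg_ic [IsProper X.hom] (E Γ : ArSurf.VertComp R X) {L : X.left.Modules}
    (hL : ClSub.IsInverseOf L (ClSub.idealMod Γ.ι.ker)) (h : BlowUp.IsEffCartierIdeal Γ.ι.ker) :
    deg E (ic Γ.ι.ker h) = - ArSurf.inter R X L E := by
  rw [ic, deg_mk, Models.H65.InterProper.inter_inverse hL, neg_neg]

/-- The main construction. -/
theorem exists_data (hX : ArSurf.IsArithSurface R X)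
    {r : ℕ} (Γ : Fin r → ArSurf.VertComp R X)
    (hΓ : Function.Injective fun i => Set.range ((Γ i).ι.base : (Γ i).curve.left → X.left))
    (L : Fin r → X.left.Modules) (hL : ∀ j, ClSub.IsInverseOf (L j) (ClSub.idealMod (Γ j).ι.ker))
    (hneg : ∀ a : Fin r → ℤ, a ≠ 0 →
      (Finset.univ : Finset (Fin r × Fin r)).sum (fun p => a p.1 * a p.2 * ArSurf.inter R X (L p.2) (Γ p.1)) < 0)
    (hpic : ∀ (Z : Scheme.{u}) (z : Z ⟶ X.left) [IsClosedImmersion z], BlowUp.IsEffCartierIdeal z.ker →
      Nonempty Z → Set.range z.base ⊆ (⋃ i, Set.range (Γ i).ι.base) →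
      ∀ N : Z.Modules, PicF.IsInvertible N →
        (∀ (i : Fin r) (g : (Γ i).curve.left ⟶ Z), g ≫ z = (Γ i).ι →
          ArSurf.curveDeg (IsLocalRing.ResidueField R) (Γ i).curve.left ((Scheme.Modules.pullback g).obj N) = 0) →
        Nonempty (N ≅ Coh.structureModule Z))
    (M' : X.left.Modules) (hM' : PicF.IsInvertible M') (hM'0 : ∀ i, ArSurf.inter R X M' (Γ i) = 0) :
    ∃ (M : X.left.Modules) (hM : PicF.IsInvertible M),
      (∀ i : Fin r, ∃ t : Coh.structureModule X.left ⟶ M,
        ∀ j, Set.range (Γ j).ι ⊆ (CohB1.genLocus M t : Set X.left)) ∧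
      (∀ i : Fin r, ∃ t : Coh.structureModule X.left ⟶ CohB1.tensorMod M' M,
        ∀ j, Set.range (Γ j).ι ⊆ (CohB1.genLocus _ t : Set X.left)) ∧
      (∀ x : X.left, x ∉ ⋃ i, Set.range (Γ i).ι →
        ∃ s : Coh.structureModule X.left ⟶ M, x ∈ CohB1.genLocus M s) ∧
      (∀ i, ArSurf.inter R X M (Γ i) = 0) ∧
      (∀ E : ArSurf.VertComp R X, (∀ i, Set.range E.ι ≠ Set.range (Γ i).ι) →
        0 < ArSurf.inter R X M E) ∧
      ∃ H : X.left.Modules, CohB1.IsAmple H ∧
        Nonempty ((Scheme.Modules.pullback (GenFibre.genι X)).obj M ≅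
          (Scheme.Modules.pullback (GenFibre.genι X)).obj H) := by
  obtain ⟨hXreg, hXint, hXdim, hXflat, hXproj⟩ := id hX
  obtain ⟨hprop, A, hA⟩ := CastAmple.exists_ample X hXproj
  obtain ⟨H, hH, J, hJ, σ, hV, hV', hσa, hσc⟩ := exists_H X.hom hA hM'
  obtain ⟨n, a, hn, ha, hna⟩ := ArtinNum.exists_pos_solution
    (fun i j => ArSurf.inter R X (L j) (Γ i)) hneg
    (fun i j hij => inter_nonneg (Γ i) (Γ j) (fun h => hij (hΓ h)) (hL j))
    (fun i => ArSurf.inter R X H (Γ i)) (fun i => inter_pos (Γ i) hH)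
  have hP : ∀ j, BlowUp.IsEffCartierIdeal (Γ j).ι.ker := fun j =>
    isEffCartierIdeal_of_isInverseOf (hL j)
  let D : X.left.IdealSheafData := ∏ j, (Γ j).ι.ker ^ a j
  have hD : BlowUp.IsEffCartierIdeal D := IdealQuot.isEff_prod (fun j => (Γ j).ι.ker) hP _ a
  let z := D.subschemeι
  have hzD : z.ker = D := Scheme.IdealSheafData.ker_subschemeι D
  have hz : BlowUp.IsEffCartierIdeal z.ker := by rw [hzD]; exact hD
  have hidc : idc z hz = ∏ j, ic (Γ j).ι.ker (hP j) ^ a j := ic_prod _ hP a _ z.ker hzD hz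
  have hsupp : ∀ j, ((Γ j).ι.ker.support : Set X.left) = Set.range (Γ j).ι := fun j => by
    ext x; exact VertGeom.mem_support_ker_iff (Γ j).ι x
  have hrz : Set.range z = (D.support : Set X.left) := Scheme.IdealSheafData.range_subschemeι D
  have hrange : Set.range z = ⋃ j, Set.range (Γ j).ι := by
    rw [hrz]
    apply Set.Subset.antisymm
    · intro x hx
      obtain ⟨j, -, -, hj⟩ := IdealQuot.support_prod (fun j => (Γ j).ι.ker) Finset.univ a x hx
      exact Set.mem_iUnion.2 ⟨j, by rw [← hsupp]; exact hj⟩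
    · refine Set.iUnion_subset fun j => ?_
      rw [← hsupp]
      have h2 : D = (Γ j).ι.ker ^ a j * ∏ i ∈ Finset.univ.erase j, (Γ i).ι.ker ^ a i :=
        (Finset.mul_prod_erase _ _ (Finset.mem_univ j)).symm
      rw [h2, Scheme.IdealSheafData.support_mul, Scheme.IdealSheafData.support_pow _ _ (ha j).ne']
      exact Set.subset_union_left
  have hinv := (isInvertible_idealMod_iff z.ker).2 hz
  have hDu : PicF.IsInvertible (dual (ClSub.idealMod z.ker)) := isInvertible_dual hinv
  have hDc : mk (dual (ClSub.idealMod z.ker)) hDu = (idc z hz)⁻¹ := (inv_mk hinv).symm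
  have hHn : PicF.IsInvertible (CohB1.tensorPow H n) := isInvertible_tensorPow hH.1 n
  let M := CohB1.tensorMod (CohB1.tensorPow H n) (dual (ClSub.idealMod z.ker))
  have hM : PicF.IsInvertible M := isInvertible_tensorMod hHn hDu
  have hMc : mk M hM = mk H hH.1 ^ n * (idc z hz)⁻¹ := by
    rw [← mk_mul_mk hHn hDu, hDc, mk_tensorPow hH.1 n]
  have hdeg : ∀ E : ArSurf.VertComp R X, ArSurf.inter R X M E =
      n * ArSurf.inter R X H E + ∑ j, (a j : ℤ) * ArSurf.inter R X (L j) E := by
    intro E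
    have h1 : ArSurf.inter R X M E = deg E (mk M hM) := rfl
    have h2 : deg E (mk H hH.1) = ArSurf.inter R X H E := rfl
    rw [h1, hMc, deg_mul, deg_pow, deg_inv, hidc, deg_prod, h2, ← Finset.sum_neg_distrib]
    congr 1
    refine Finset.sum_congr rfl fun j _ => ?_
    rw [deg_pow, deg_ic E (Γ j) (hL j)]
    ring
  have hM0 : ∀ i, ArSurf.inter R X M (Γ i) = 0 := fun i => by rw [hdeg]; exact hna i
  have htriv : ∀ (N : X.left.Modules) (hN : PicF.IsInvertible N),
      (∀ i, ArSurf.inter R X N (Γ i) = 0) → Nonempty D.subscheme → pull z (mk N hN) = 1 := by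
    intro N hN h0 hne
    rw [pull_mk, mk_eq_one_iff]
    refine hpic _ z hz hne hrange.le _ (isInvertible_pullback z hN) fun i g hg => ?_
    rw [curveDeg_comp (Γ i) z g hg N]
    exact h0 i
  have hne : ∀ i : Fin r, Nonempty D.subscheme := by
    intro i
    have : IsIntegral (Γ i).curve.left := (Γ i).isIntegral
    obtain ⟨w⟩ : Nonempty (Γ i).curve.left := inferInstance
    have h1 : (Γ i).ι w ∈ Set.range z := by
      rw [hrange]; exact Set.mem_iUnion.2 ⟨i, w, rfl⟩
    obtain ⟨y, -⟩ := h1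
    exact ⟨y⟩
  refine ⟨M, hM, ?_, ?_, ?_, hM0, ?_, CohB1.tensorPow H n,
    Divis.NormAmple.isAmple_tensorPow hH hn, ?_⟩
  · intro i
    obtain ⟨t, ht⟩ := exists_gen z hz M hM
      (by rw [hMc, mul_assoc, inv_mul_cancel, mul_one]; exact hV n hn) (htriv M hM hM0 (hne i))
    refine ⟨t, fun j => Set.Subset.trans ?_ ht⟩
    rw [hrange]
    exact Set.subset_iUnion (fun j => Set.range (Γ j).ι) j
  · intro i
    obtain ⟨t, ht⟩ := exists_gen z hz (CohB1.tensorMod M' M) (isInvertible_tensorMod hM' hM)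
      (by
        rw [← mk_mul_mk hM' hM, hMc, mul_assoc, mul_assoc, inv_mul_cancel, mul_one]
        exact hV' n hn) (by
        rw [← mk_mul_mk hM' hM, map_mul, htriv M hM hM0 (hne i), htriv M' hM' hM'0 (hne i), one_mul])
    refine ⟨t, fun j => Set.Subset.trans ?_ ht⟩
    rw [hrange]
    exact Set.subset_iUnion (fun j => Set.range (Γ j).ι) j
  · intro x hx
    obtain ⟨s, hs⟩ := Cast5.exists_section z hz
    have h1 : x ∈ ⨆ j, CohB1.genLocus H (σ j) := by rw [hσc]; trivial
    obtain ⟨j, hj⟩ := Opens.mem_iSup.mp h1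
    refine ⟨tmulHom (powHom (σ j) n) s, ?_⟩
    rw [genLocus_tmulHom hHn hDu]
    refine ⟨?_, ?_⟩
    · obtain ⟨m, rfl⟩ : ∃ m, n = m + 1 := ⟨n - 1, by omega⟩
      rw [SetLike.mem_coe, Fdesc.LocGen.genLocus_powHom hH.1 (σ j) m]
      exact hj
    · rw [hs, hrange]
      exact hx
  · intro E hE
    rw [hdeg]
    have h1 : 0 < (n : ℤ) * ArSurf.inter R X H E := mul_pos (by exact_mod_cast hn) (inter_pos E hH)
    have h2 : 0 ≤ ∑ j, (a j : ℤ) * ArSurf.inter R X (L j) E :=
      Finset.sum_nonneg fun j _ => mul_nonneg (by positivity) (inter_nonneg E (Γ j) (hE j) (hL j))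
    linarith
  · have h1 : pull (GenFibre.genι X) (idc z hz) = 1 := by
      rw [idc, pull_mk, mk_eq_one_iff]
      refine Models.H65.GenTriv.pullback_idealMod_trivial _ hz fun y hy => ?_
      have h2 : GenFibre.genι X y ∈ Set.range z := by
        rw [hrz, ← hzD]; exact hy
      rw [hrange] at h2
      obtain ⟨j, w, hw⟩ := Set.mem_iUnion.1 h2
      have h3 := Contr.hom_vertComp (Γ j) w
      have h4 := GenFibre.genι_mem X y
      have h5 : X.hom ((Γ j).ι w) = X.hom (GenFibre.genι X y) := congrArg _ hw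
      rw [← h5, h3] at h4
      exact Contr.asIdeal_closedPoint_ne h4
    have h2 : pull (GenFibre.genι X) (mk M hM) =
        pull (GenFibre.genι X) (mk (CohB1.tensorPow H n) hHn) := by
      rw [hMc, map_mul, map_inv, h1, inv_one, mul_one, mk_tensorPow hH.1 n]
    rw [pull_mk, pull_mk, mk_eq_iff] at h2
    exact h2

/-- No section of a module which is ample on the generic fibre generates along the generic fibre. -/
theorem exists_notMem (hX : ArSurf.IsArithSurface R X) {M H : X.left.Modules} (hM : PicF.IsInvertible M)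
    (hH : CohB1.IsAmple H) (e : (Scheme.Modules.pullback (GenFibre.genι X)).obj M ≅
      (Scheme.Modules.pullback (GenFibre.genι X)).obj H) (t : Coh.structureModule X.left ⟶ M) :
    ∃ x : X.left, (X.hom x).asIdeal = ⊥ ∧ x ∉ CohB1.genLocus M t := by
  obtain ⟨hXreg, hXint, hXdim, hXflat, hXproj⟩ := id hX
  have hprop : IsProper X.hom := GenFibre.isProper_of_isProjectiveOver hXproj
  by_contra hcon
  push Not at hcon
  obtain ⟨e'⟩ := SecTriv.nonempty_iso_of_range (GenFibre.genι X) hM t (by
    rintro _ ⟨z, rfl⟩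
    exact hcon _ (GenFibre.genι_mem X z))
  have h1 : IsIntegral ((Neron.genericFibre R).obj X).left := GenDim.isIntegral_genericFibre X
  have h2 := GenDim.topologicalKrullDim_genericFibre X hXdim
  have h3 : IsProper ((Neron.genericFibre R).obj X).hom :=
    MorphismProperty.of_isPullback (GenFibre.isPullback_genι X) inferInstance
  have h4 : IsProper (((Neron.genericFibre R).obj X).left ↘ Spec (CommRingCat.of (FractionRing R))) := h3
  have h5 : IsAffineHom (GenFibre.genι X) := by
    have : IsAffineHom (Neron.genPt R) := inferInstance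
    exact MorphismProperty.of_isPullback (GenFibre.isPullback_genι X).flip this
  have h6 := CohqB.AmpCocycle.isAmple_pullback (GenFibre.genι X) hH
  have h7 := (S1530.result (FractionRing R) _ h2 _ (isInvertible_pullback (GenFibre.genι X) hH.1)).1 h6
  rw [InterNum.deg_congr _ _ h2 (e.symm ≪≫ e'), InterNum.deg_unit] at h7
  exact lt_irrefl _ h7

end K479.ArtinData
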