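import Groth.Agent.ArSurf.K479.CotGeom
import Groth.Agent.ArSurf.K479.Artin
import Groth.Agent.Dix.CastMain

/-!
# Contraction of a projective line with conormal sheaf `O(d)`, `d ≥ 1`
-/

set_option autoImplicit false
set_option backward.isDefEq.respectTransparency false
universe u

open CategoryTheory CategoryTheory.Limits AlgebraicGeometry TopologicalSpace Opposite IsLocalRing

namespace K479.CastD

open Groth.Agent Groth.Agent.Dix
open Groth.Agent.Fdesc.LocGen Groth.Agent.Grpsch.PicGrp Groth.Agent.Dix.CastPic Groth.Agent.Dix.CastLift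
open Groth.Agent.Dix.CastMain

section Van

variable {k : Type u} [Field k] {X : Scheme.{u}} (ι : CohB1.ProjSpace 1 k ⟶ X) [IsClosedImmersion ι]
  (heff : BlowUp.IsEffCartierIdeal ι.ker) {d : ℕ} (hI : pull ι (idc ι heff) = o k d)
include hI

/-- Twist induction. -/
theorem V1_ind (c : Pic X) (m : ℤ) (hc : pull ι c = o k m)
    (h : V1 c) (i : ℕ) (hi : (i : ℤ) * d ≤ m + 1) : V1 (c * (idc ι heff)⁻¹ ^ i) := by
  induction i with
  | zero => rwa [pow_zero, mul_one]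
  | succ i ih =>
    refine V1_step ι heff _ (m - (i + 1 : ℕ) * d) (by push_cast at hi ⊢; omega) ?_ ?_
    · rw [map_mul, map_pow, map_inv, hc, hI, ← o_neg, o_pow, ← o_add]
      congr 1; push_cast; ring
    · rw [pow_succ]
      have := ih (by push_cast at hi ⊢; nlinarith)
      rwa [mul_assoc, mul_assoc, inv_mul_cancel, mul_one]

/-- The vanishing of `H^1(I^j)` near the curve. -/
theorem V1_pow {R : Type u} [CommRing R] [IsNoetherianRing R]
    (p : X ⟶ Spec (CommRingCat.of R)) [IsProper p] {A : X.Modules} (hA : CohB1.IsAmple A) (n h : ℕ)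
    (hn : 1 ≤ n) (hh : 1 ≤ h) (hrel : mk A hA.1 ^ n = idc ι heff ^ h) (j : ℕ) : V1 (idc ι heff ^ j) := by
  obtain ⟨n₀, hn₀⟩ := CastAmple.exists_V1 p hA
  let q := n₀ + 1 + j
  have h1 : V1 (mk A hA.1 ^ (n * q)) := hn₀ _ (by
    calc n₀ ≤ n₀ + 1 + j := by omega
      _ = 1 * (n₀ + 1 + j) := (one_mul _).symm
      _ ≤ n * (n₀ + 1 + j) := Nat.mul_le_mul_right _ hn)
  have h2 : mk A hA.1 ^ (n * q) = idc ι heff ^ (h * q) := by
    rw [pow_mul, hrel, ← pow_mul]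
  rw [h2] at h1
  have h3 : pull ι (idc ι heff ^ (h * q)) = o k ((h * q : ℕ) * (d : ℤ)) := by
    rw [map_pow, hI, o_pow]
  have hle : j ≤ h * q := by
    calc j ≤ 1 * q := by omega
      _ ≤ h * q := Nat.mul_le_mul_right _ hh
  obtain ⟨r, hr⟩ := Nat.exists_eq_add_of_le hle
  have h4 := V1_ind ι heff hI _ _ h3 h1 r (by
    rw [hr]
    push_cast
    nlinarith [mul_nonneg (Int.natCast_nonneg j) (Int.natCast_nonneg d)])
  rwa [hr, pow_add, inv_pow, mul_assoc, mul_inv_cancel, mul_one] at h4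

end Van

/-- Two sections of `O(d)` on the projective line without common zeros. -/
theorem exists_secs (k : Type u) [Field k] {d : ℕ} (hd : 1 ≤ d) :
    ∃ (N : (CohB1.ProjSpace 1 k).Modules) (hN : PicF.IsInvertible N) (T : Fin 2 → Γ(N, ⊤)), mk N hN = o k d ∧
      ∀ x : CohB1.ProjSpace 1 k, ∃ i, x ∈ CohB1.genLocus _ (homOf (T i)) := by
  obtain ⟨T, hT, -⟩ := Cast2.wp2_coords k
  have h1 := Groth.Agent.Ega3B.ProjTwist.isInvertible_twistProjSpace 1 k 1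
  obtain ⟨n, rfl⟩ : ∃ n, d = n + 1 := ⟨d - 1, by omega⟩
  refine ⟨CohB1.tensorPow (Twist.twistProjSpace 1 k 1) (n + 1), isInvertible_tensorPow h1 _,
    fun i => sec (powHom (homOf (T i)) (n + 1)) ⊤, ?_, ?_⟩
  · rw [mk_tensorPow h1]
    change o k 1 ^ (n + 1) = _
    rw [o_pow, mul_one]
  · intro x
    obtain ⟨i, hi⟩ := hT x
    refine ⟨i, ?_⟩
    rw [homOf_sec, genLocus_powHom h1]
    exact hi

/-- Two sections without common zeros along `E`. -/
theorem exists_pair {k : Type u} [Field k] {X : Scheme.{u}} (ι : CohB1.ProjSpace 1 k ⟶ X)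
    [IsClosedImmersion ι] (heff : BlowUp.IsEffCartierIdeal ι.ker) (N : X.Modules)
    (hN : PicF.IsInvertible N) (h : V1 (mk N hN * idc ι heff)) {d : ℕ} (hd : 1 ≤ d)
    (h1 : pull ι (mk N hN) = o k d) :
    ∃ u v : Γ(N, ⊤), Set.range ι ⊆
      ((CohB1.genLocus N (homOf u) ⊔ CohB1.genLocus N (homOf v) : X.Opens) : Set X) := by
  obtain ⟨N', hN', T, hN'c, hT⟩ := exists_secs k hd
  rw [pull_mk, ← hN'c, mk_eq_iff] at h1
  obtain ⟨e⟩ := h1
  obtain ⟨u, hu⟩ := exists_lift ι heff N hN h (e.inv.app ⊤ (T 0))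
  obtain ⟨v, hv⟩ := exists_lift ι heff N hN h (e.inv.app ⊤ (T 1))
  have key : ∀ (x : CohB1.ProjSpace 1 k) (w : Γ(N, ⊤)) (i : Fin 2)
      (_ : pullTop ι w = e.inv.app ⊤ (T i)) (_ : x ∈ CohB1.genLocus _ (homOf (T i))),
      ι x ∈ CohB1.genLocus N (homOf w) := by
    intro x w i hw hx
    have h2 : x ∈ ι ⁻¹ᵁ CohB1.genLocus N (homOf w) := by
      rw [← Groth.Agent.Ega1.AmpFam.genLocus_pullHom ι hN, pullHom, sec_homOf, res_refl, hw]
      have h3 : homOf (e.inv.app ⊤ (T i)) = homOf (T i) ≫ e.inv := by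
        apply hom_ext_sec
        rw [sec_homOf, res_refl, sec_comp, sec_homOf, res_refl]
      rw [h3, Groth.Agent.Ega2.SecCalc.genLocus_comp]
      exact hx
    exact h2
  refine ⟨u, v, ?_⟩
  rintro _ ⟨x, rfl⟩
  obtain ⟨i, hi⟩ := hT x
  fin_cases i
  · exact Or.inl (key x u 0 hu hi)
  · exact Or.inr (key x v 1 hv hi)

/-- The cotangent space at the point `y`. -/
theorem cot_stalk {X Y : Scheme.{u}} (f : X ⟶ Y) [IsProper f] [IsIntegral X] [IsIntegral Y]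
    [IsLocallyNoetherian Y] [IsLocallyNoetherian X]
    (hf : ∀ U : Y.Opens, IsIso (f.app U)) {k : Type u} [Field k] (ι : CohB1.ProjSpace 1 k ⟶ X)
    [IsClosedImmersion ι] (heff : BlowUp.IsEffCartierIdeal ι.ker) {d : ℕ}
    (hI : pull ι (idc ι heff) = o k d) {A M N : X.Modules} (hA : CohB1.IsAmple A)
    (hM : PicF.IsInvertible M) (t : Coh.structureModule X ⟶ M) (hN : PicF.IsInvertible N)
    (hNc : mk N hN = mk M hM * idc ι heff) (n h : ℕ) (hn : 1 ≤ n) (hh : 1 ≤ h)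
    (hMc : mk M hM = mk A hA.1 ^ n * (idc ι heff)⁻¹ ^ h) (u v : Γ(N, ⊤))
    (Y₁ : Y.Opens) (hY₁ : IsAffineOpen Y₁) (y : Y)
    (hy : y ∈ Y₁) (ht : f ⁻¹ᵁ Y₁ ≤ CohB1.genLocus M t)
    (hG : f ⁻¹ᵁ Y₁ ≤ CohB1.genLocus N (homOf u) ⊔ CohB1.genLocus N (homOf v))
    (e : CohB1.ProjSpace 1 k) (hey : f (ι e) = y) (hrange : Set.range ι ⊆ (f ⁻¹ᵁ Y₁ : Set X)) :
    Module.finrank (ResidueField (Y.presheaf.stalk y)) (CotangentSpace (Y.presheaf.stalk y)) = d + 1 := by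
  obtain ⟨ι', rfl, hc⟩ := exists_factor ι (f ⁻¹ᵁ Y₁) hrange
  obtain ⟨heff', hid⟩ := Cast5.pull_idc (f ⁻¹ᵁ Y₁).ι ι' heff
  have hid' : pull (f ⁻¹ᵁ Y₁).ι (idc (ι' ≫ (f ⁻¹ᵁ Y₁).ι) heff) = idc ι' heff' := hid
  have hI' : pull ι' (idc ι' heff') = o k d := by
    rw [← hid', ← pull_comp]; exact hI
  have hA' : CohB1.IsAmple ((Scheme.Modules.pullback (f ⁻¹ᵁ Y₁).ι).obj A) :=
    Groth.Agent.CalgB.AmpleBase.isAmple_pullback_of_isImmersion (f ⁻¹ᵁ Y₁).ι hA
  have hM1 : pull (f ⁻¹ᵁ Y₁).ι (mk M hM) = 1 := by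
    rw [pull_mk, mk_eq_one_iff]
    have hg : CohB1.genLocus _ (pullHom (f ⁻¹ᵁ Y₁).ι t) = ⊤ := by
      rw [Groth.Agent.Ega1.AmpFam.genLocus_pullHom _ hM, eq_top_iff]
      rintro x -
      exact ht x.2
    have h1 := isGen_sec_genLocus (pullHom (f ⁻¹ᵁ Y₁).ι t)
    rw [hg] at h1
    have h2 : IsIso (pullHom (f ⁻¹ᵁ Y₁).ι t) := (isIso_iff_isGen _).2 h1
    exact ⟨(asIso (pullHom (f ⁻¹ᵁ Y₁).ι t)).symm⟩
  have hrel : mk ((Scheme.Modules.pullback (f ⁻¹ᵁ Y₁).ι).obj A) hA'.1 ^ n = idc ι' heff' ^ h := by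
    have h1 := congrArg (pull (f ⁻¹ᵁ Y₁).ι) hMc
    rw [hM1, map_mul, map_pow, map_pow, map_inv, hid', pull_mk, inv_pow, eq_comm,
      mul_inv_eq_one] at h1
    exact h1
  have : IsAffine Y₁ := hY₁
  have hnoe : IsNoetherianRing Γ((Y₁ : Scheme.{u}), ⊤) :=
    IsLocallyNoetherian.component_noetherian ⟨⊤, isAffineOpen_top (Y₁ : Scheme.{u})⟩
  let p₁ : ((f ⁻¹ᵁ Y₁ : X.Opens) : Scheme.{u}) ⟶
      Spec (CommRingCat.of Γ((Y₁ : Scheme.{u}), ⊤)) := (f ∣_ Y₁) ≫ (Y₁ : Scheme.{u}).isoSpec.hom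
  have hp₁ : IsProper p₁ := inferInstanceAs (IsProper ((f ∣_ Y₁) ≫ (Y₁ : Scheme.{u}).isoSpec.hom))
  have hV := V1_pow ι' heff' hI' p₁ hA' n h hn hh hrel
  have hNc' : pull (f ⁻¹ᵁ Y₁).ι (mk N hN) = idc ι' heff' := by
    rw [hNc, map_mul, hM1, one_mul, hid']
  rw [pull_mk, idc, mk_eq_iff] at hNc'
  obtain ⟨θ⟩ := hNc'
  have hiso : IsIso (f ∣_ Y₁).appTop := by
    have := hf Y₁
    have h1 : IsIso ((f ∣_ Y₁).app ⊤) := by
      rw [morphismRestrict_app]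
      infer_instance
    exact h1
  have hne : Nonempty ((f ⁻¹ᵁ Y₁ : X.Opens) : Scheme.{u}) := ⟨ι' e⟩
  have hne' : Nonempty (Y₁ : Scheme.{u}) := ⟨⟨y, hy⟩⟩
  have hgl : ∀ w : Γ(N, ⊤), CohB1.genLocus _
      (homOf (θ.hom.app ⊤ (pullTop (f ⁻¹ᵁ Y₁).ι w))) =
        (f ⁻¹ᵁ Y₁).ι ⁻¹ᵁ CohB1.genLocus N (homOf w) := by
    intro w
    have h3 : homOf (θ.hom.app ⊤ (pullTop (f ⁻¹ᵁ Y₁).ι w)) =
        pullHom (f ⁻¹ᵁ Y₁).ι (homOf w) ≫ θ.hom := by
      apply hom_ext_sec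
      rw [sec_homOf, res_refl, sec_comp, pullHom, sec_homOf, sec_homOf, res_refl, res_refl]
    rw [h3, Groth.Agent.Ega2.SecCalc.genLocus_comp, Groth.Agent.Ega1.AmpFam.genLocus_pullHom _ hN]
  have hmain := CotGeom.cot_top (f ∣_ Y₁) ι' heff' (by simpa using hV 0) (by simpa using hV 1)
    (by rw [← pow_two]; exact hV 2) d hI'
    (θ.hom.app ⊤ (pullTop (f ⁻¹ᵁ Y₁).ι u)) (θ.hom.app ⊤ (pullTop (f ⁻¹ᵁ Y₁).ι v)) (by
      rw [hgl, hgl, eq_top_iff]
      rintro x -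
      exact hG x.2) e ⟨y, hy⟩ (by
      apply Subtype.ext
      refine Eq.trans ?_ hey
      change Y₁.ι ((f ∣_ Y₁) (ι' e)) = _
      rw [← Scheme.Hom.comp_apply, morphismRestrict_ι]
      rfl)
  have hfinite : Module.Finite (ResidueField ((Y₁ : Scheme.{u}).presheaf.stalk ⟨y, hy⟩))
      (CotangentSpace ((Y₁ : Scheme.{u}).presheaf.stalk ⟨y, hy⟩)) :=
    Module.finite_of_finrank_pos (by rw [hmain]; omega)
  rw [← hmain]
  exact CotLoc.finrank_eq_of_ringEquiv (Y₁.stalkIso ⟨y, hy⟩).commRingCatIsoToRingEquiv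

/-- The conormal class is `O(d)`. -/
theorem pull_idc_eq {k : Type u} [Field k] {X : Scheme.{u}} (ι : CohB1.ProjSpace 1 k ⟶ X)
    [IsClosedImmersion ι] (heff : BlowUp.IsEffCartierIdeal ι.ker) (d : ℕ)
    (hdeg : ArSurf.curveDeg k (CohB1.ProjSpace 1 k)
      ((Scheme.Modules.pullback ι).obj (ClSub.idealMod ι.ker)) = d) :
    pull ι (idc ι heff) = o k d := by
  obtain ⟨m, hm⟩ := exists_o k (pull ι (idc ι heff))
  have hm' := hm
  rw [idc, pull_mk, o, mk_eq_iff] at hm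
  obtain ⟨e⟩ := hm
  rw [Cast0.curveDeg_congr k e, Cast2.wp2_deg] at hdeg
  rw [hm', hdeg]

/-- **Contraction** of a projective line with conormal sheaf `O(d)`. -/
theorem contraction (R : Type u) [CommRing R] [IsDedekindDomain R]
    (X : Over (Spec (CommRingCat.of R))) (hXint : IsIntegral X.left) (hXproj : Neron.IsProjectiveOver R X)
    (k : Type u) [Field k]
    (ι : CohB1.ProjSpace 1 k ⟶ X.left) [IsClosedImmersion ι]
    (heff : BlowUp.IsEffCartierIdeal ι.ker) (d : ℕ) (hd : 1 ≤ d)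
    (hdeg : ArSurf.curveDeg k (CohB1.ProjSpace 1 k)
      ((Scheme.Modules.pullback ι).obj (ClSub.idealMod ι.ker)) = d) :
    ∃ (Y : Over (Spec (CommRingCat.of R))) (f : X ⟶ Y) (y : Y.left)
      (hy : IsClosed ({y} : Set Y.left)),
      IsIntegral Y.left ∧ IsProper f.left ∧ Surjective f.left ∧ (∀ U : Y.left.Opens, IsIso (f.left.app U)) ∧
      Neron.IsProjectiveOver R Y ∧ Set.range (ι ≫ f.left) = {y} ∧
      (f.left ⁻¹ᵁ (⟨{y}ᶜ, hy.isOpen_compl⟩ : Y.left.Opens) : Set X.left) = (Set.range ι)ᶜ ∧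
      IsIso (f.left ∣_ (⟨{y}ᶜ, hy.isOpen_compl⟩ : Y.left.Opens)) ∧
      Module.finrank (ResidueField (Y.left.presheaf.stalk y)) (CotangentSpace (Y.left.presheaf.stalk y)) =
        d + 1 := by
  obtain ⟨hprop, A, hA⟩ := CastAmple.exists_ample X hXproj
  have hN : IsLocallyNoetherian X.left := LocallyOfFiniteType.isLocallyNoetherian X.hom
  have hI := pull_idc_eq ι heff d hdeg
  obtain ⟨H₀, hH₀, J, hJ, σ₀, hH₀V, -, hσ₀a, hσ₀c⟩ := Artin.exists_H X.hom hA isInvertible_structureModule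
  obtain ⟨a, ha, haH⟩ := CastAmple.exists_deg ι hH₀
  -- a power of degree divisible by `d`
  have hH₀i := hH₀.1
  let H := CohB1.tensorPow H₀ (2 * d)
  have hH : PicF.IsInvertible H := isInvertible_tensorPow hH₀i (2 * d)
  have hHa : CohB1.IsAmple H := Divis.NormAmple.isAmple_tensorPow hH₀ (by omega)
  have hHc : mk H hH = mk H₀ hH₀i ^ (2 * d) := mk_tensorPow hH₀i _
  obtain ⟨h, hh⟩ : ∃ h : ℕ, h = 2 * a := ⟨_, rfl⟩
  have hh2 : 2 ≤ h := by omega
  have hHp : pull ι (mk H hH) = o k ((h : ℤ) * d) := by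
    rw [hHc, map_pow, haH, o_pow, hh]
    congr 1; push_cast; ring
  have hHV : V1 (mk H hH) := by
    rw [hHc]
    exact hH₀V (2 * d) (by omega)
  let σ : J → (Coh.structureModule X.left ⟶ H) := fun j => powHom (σ₀ j) (2 * d)
  have hσg : ∀ j, CohB1.genLocus H (σ j) = CohB1.genLocus H₀ (σ₀ j) := by
    intro j
    obtain ⟨m, hm⟩ : ∃ m, 2 * d = m + 1 := ⟨2 * d - 1, by omega⟩
    have := genLocus_powHom hH₀i (σ₀ j) m
    simp only [σ, H]
    rw [hm]
    exact this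
  have hσa : ∀ j, IsAffineOpen (CohB1.genLocus H (σ j)) := fun j => by rw [hσg]; exact hσ₀a j
  have hσc : ⨆ j, CohB1.genLocus H (σ j) = ⊤ := by
    rw [← hσ₀c]
    congr 1
    funext j
    exact hσg j
  -- the canonical section of `O(E)`
  obtain ⟨sE, hsE⟩ := Cast5.exists_section ι heff
  have hinv := (IdealModCartier.isInvertible_idealMod_iff ι.ker).2 heff
  have hD : PicF.IsInvertible (dual (ClSub.idealMod ι.ker)) := isInvertible_dual hinv
  have hDc : mk (dual (ClSub.idealMod ι.ker)) hD = (idc ι heff)⁻¹ := (inv_mk hinv).symm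
  let P := CohB1.tensorPow (dual (ClSub.idealMod ι.ker)) h
  have hP : PicF.IsInvertible P := isInvertible_tensorPow hD h
  have hPc : mk P hP = (idc ι heff)⁻¹ ^ h := by rw [mk_tensorPow hD h, hDc]
  let M := CohB1.tensorMod H P
  have hM : PicF.IsInvertible M := isInvertible_tensorMod hH hP
  have hMc : mk M hM = mk H hH * (idc ι heff)⁻¹ ^ h := by rw [← mk_mul_mk hH hP, hPc]
  have hind : ∀ i : ℕ, i ≤ h → V1 (mk H hH * (idc ι heff)⁻¹ ^ i) := fun i hi =>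
    V1_ind ι heff hI (mk H hH) ((h : ℤ) * d) hHp hHV i (by
      have : (i : ℤ) ≤ h := by exact_mod_cast hi
      nlinarith [Int.natCast_nonneg d])
  have hc1 : mk M hM * idc ι heff = mk H hH * (idc ι heff)⁻¹ ^ (h - 1) := by
    obtain ⟨m, rfl⟩ : ∃ m, h = m + 1 := ⟨h - 1, by omega⟩
    rw [hMc, Nat.add_sub_cancel, pow_succ, mul_assoc, mul_assoc, inv_mul_cancel, mul_one]
  have hc2 : mk M hM * idc ι heff * idc ι heff = mk H hH * (idc ι heff)⁻¹ ^ (h - 2) := by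
    obtain ⟨m, rfl⟩ : ∃ m, h = m + 2 := ⟨h - 2, by omega⟩
    rw [hMc, Nat.add_sub_cancel, pow_add, pow_two]
    rw [mul_assoc, mul_assoc, mul_assoc, mul_assoc, inv_mul_cancel_left, inv_mul_cancel, mul_one]
  have hMp : pull ι (mk M hM) = 1 := by
    rw [hMc, map_mul, map_pow, map_inv, hHp, hI, ← o_neg, o_pow, ← o_add, ← o_zero]
    congr 1; ring
  -- the section `t`
  obtain ⟨t, ht⟩ := exists_gen ι heff M hM (by rw [hc1]; exact hind _ (by omega)) hMp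
  -- the sections `u, v`
  let N := CohB1.tensorMod M (ClSub.idealMod ι.ker)
  have hNi : PicF.IsInvertible N := isInvertible_tensorMod hM hinv
  have hNc : mk N hNi = mk M hM * idc ι heff := (mk_mul_mk hM hinv).symm
  obtain ⟨u, v, huv⟩ := exists_pair ι heff N hNi
    (by rw [hNc, hc2]; exact hind _ (by omega)) hd (by rw [hNc, map_mul, hMp, one_mul, hI])
  -- the sections `s_j`
  obtain ⟨r, ⟨eJ⟩⟩ := Finite.exists_equiv_fin J
  let s' : Fin r → (Coh.structureModule X.left ⟶ M) := fun j =>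
    tmulHom (σ (eJ.symm j)) (powHom sE h)
  have hs' : ∀ j, CohB1.genLocus M (s' j) =
      CohB1.genLocus H (σ (eJ.symm j)) ⊓ CohB1.genLocus _ sE := by
    intro j
    rw [genLocus_tmulHom hH hP]
    congr 1
    obtain ⟨m, rfl⟩ : ∃ m, h = m + 1 := ⟨h - 1, by omega⟩
    exact genLocus_powHom hD sE m
  let s : Fin (r + 1) → (Coh.structureModule X.left ⟶ M) := Fin.cons t s'
  have hE : IsField Γ(CohB1.ProjSpace 1 k, ⊤) := Cast2.wp2_isField k
  have hne : Nonempty (CohB1.ProjSpace 1 k) := by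
    by_contra hcon
    rw [not_nonempty_iff] at hcon
    exact Cast2.not_isAffine k inferInstance
  obtain ⟨Y, f, q, y, hy, Y₀, hfq, hfp, hfs, hYi, hYn, hfU, hYp, hY₀, hyY₀, hfY₀, hr, hpre, hiso⟩ :=
    Cast3.wp3 X.hom ι hE M hM s (by simpa [s] using ht) (by
      intro j
      simp only [s, Fin.cons_succ]
      rw [hs', inf_comm]
      exact Groth.Agent.Ega2.Weight.isAffineOpen_genLocus_inf hD sE (hσa _)) (by
      simp only [s, Fin.cons_succ]
      rw [← hsE]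
      congr 1
      have h1 : ∀ j : Fin r, CohB1.genLocus M (s' j) ≤ CohB1.genLocus _ sE := fun j => by
        rw [hs']; exact inf_le_right
      refine le_antisymm (iSup_le h1) ?_
      intro x hx
      have h2 : x ∈ ⨆ j, CohB1.genLocus H (σ j) := by rw [hσc]; trivial
      obtain ⟨j, hj⟩ := Opens.mem_iSup.mp h2
      refine Opens.mem_iSup.mpr ⟨eJ j, ?_⟩
      rw [hs', Equiv.symm_apply_apply]
      exact ⟨hj, hx⟩)
  obtain ⟨e⟩ := hne
  have hey : f (ι e) = y := by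
    have h1 : (ι ≫ f) e ∈ Set.range (ι ≫ f) := ⟨e, rfl⟩
    rw [hr] at h1
    exact h1
  obtain ⟨Y₁, hY₁, hyY₁, hle, hleG⟩ := exists_affine_nhd f y
    (CohB1.genLocus N (homOf u) ⊔ CohB1.genLocus N (homOf v)) (by
      intro x hx
      apply huv
      by_contra hxE
      have h1 : x ∈ (f ⁻¹ᵁ (⟨{y}ᶜ, hy.isOpen_compl⟩ : Y.Opens) : Set X.left) := by
        rw [hpre]; exact hxE
      exact h1 hx) Y₀ hyY₀
  have hstalk := cot_stalk f hfU ι heff hI hHa hM t hNi hNc 1 h le_rfl (by omega) (by rw [hMc, pow_one])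
    u v Y₁ hY₁ y hyY₁ (by
      intro x hx
      have h1 : f x ∈ Y₀ := hle hx
      have h2 : x ∈ f ⁻¹ᵁ Y₀ := h1
      rw [hfY₀] at h2
      simpa [s] using h2) hleG e hey (by
      rintro _ ⟨x, rfl⟩
      have h1 : (ι ≫ f) x ∈ Set.range (ι ≫ f) := ⟨x, rfl⟩
      rw [hr] at h1
      change f (ι x) ∈ Y₁
      have h2 : f (ι x) = y := h1
      rw [h2]; exact hyY₁)
  exact ⟨Over.mk q, Over.homMk f hfq, y, hy, hYi, hfp, hfs, hfU, hYp, hr, hpre, hiso, hstalk⟩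

end K479.CastD
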