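import Groth.Agent.ArSurf.K479.CompBC
import Groth.Agent.Dix.SurfBasic

/-!
# The base change of an arithmetic surface to the completion is an arithmetic surface
-/

set_option autoImplicit false
universe u
open AlgebraicGeometry CategoryTheory CategoryTheory.Limits IsLocalRing TopologicalSpace

namespace K479.CompArith

open Groth.Agent Groth.Agent.Dix Groth.Agent.Dix.PointIdeal K479.CompBC

variable {R : Type u} [CommRing R] [IsDomain R] [IsDiscreteValuationRing R]
  {R' : Type u} [CommRing R'] [IsDomain R'] [IsDiscreteValuationRing R'] [Algebra R R']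
  (e : R' ≃ₐ[R] AdicCompletion (IsLocalRing.maximalIdeal R) R)

/-- Every point of a quasi-compact scheme specializes to a closed point. -/
theorem exists_closed_specializes {X : Scheme.{u}} [CompactSpace X] (x : X) :
    ∃ y : X, x ⤳ y ∧ IsClosed ({y} : Set X) := by
  obtain ⟨y, hy, hy'⟩ := (isClosed_closure (s := ({x} : Set X))).exists_closed_singleton
    ⟨x, subset_closure rfl⟩
  exact ⟨y, specializes_iff_mem_closure.2 hy, hy'⟩

/-- The local rings get smaller under generization. -/
theorem ringKrullDim_stalk_le_of_specializes {X : Scheme.{u}} {x y : X} (h : x ⤳ y) :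
    ringKrullDim (X.presheaf.stalk x) ≤ ringKrullDim (X.presheaf.stalk y) := by
  rw [ringKrullDim_stalk_eq_coheight, ringKrullDim_stalk_eq_coheight]
  have h1 : y ≤ x := Scheme.le_iff_specializes.2 h
  exact_mod_cast Order.coheight_anti h1

theorem ringKrullDim_eq_of_map_eq {A B : Type u} [CommRing A] [CommRing B] [IsLocalRing A]
    [IsNoetherianRing A] [IsLocalRing B] [IsNoetherianRing B] [Algebra A B]
    [IsLocalHom (algebraMap A B)] [Module.Flat A B]
    (h : (maximalIdeal A).map (algebraMap A B) = maximalIdeal B) : ringKrullDim B = ringKrullDim A := by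
  rw [Groth.Agent.Ega4A.RegEtale.ringKrullDim_eq_add_of_flat A B, h]
  have h1 : ringKrullDim (B ⧸ maximalIdeal B) = 0 := by
    let _ := Ideal.Quotient.field (maximalIdeal B)
    exact ringKrullDim_eq_zero_of_field _
  rw [h1, add_zero]

include e in
theorem regular_dim {X : Over (Spec (CommRingCat.of R))} (hX : ArSurf.IsArithSurface R X)
    (x' : (bc R' X).left) (hx' : IsClosed ({x'} : Set (bc R' X).left)) :
    IsRegularLocalRing ((bc R' X).left.presheaf.stalk x') ∧
      ringKrullDim ((bc R' X).left.presheaf.stalk x') = 2 := by
  have hint := hX.2.1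
  have hflat := hX.2.2.2.1
  have hprop : IsProper X.hom := SurfBasic.isProper hX
  have hprop' : IsProper (bc R' X).hom := MorphismProperty.of_isPullback (P := @IsProper) (isPullback_pr X) inferInstance
  have hnoe : IsLocallyNoetherian X.left := LocallyOfFiniteType.isLocallyNoetherian X.hom
  have hnoe' : IsLocallyNoetherian (bc R' X).left := LocallyOfFiniteType.isLocallyNoetherian (bc R' X).hom
  obtain ⟨h1, h2, h3⟩ := closed_point_bc e X x' hx'
  have hfl := flat_pr e X
  have hreg := hX.1 (pr R' X x')
  have hdim : ringKrullDim (X.left.presheaf.stalk (pr R' X x')) = 2 := by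
    refine K480.SurfDim.ringKrullDim_stalk_eq_two hX.2.2.1 _ h2 ?_
    have h4 : X.hom (pr R' X x') = closedPoint R := by
      have h5 : IsClosed ({X.hom (pr R' X x')} : Set (Spec (CommRingCat.of R))) := by
        rw [← Set.image_singleton]
        exact X.hom.isClosedMap _ h2
      exact PrimeSpectrum.ext (eq_maximalIdeal ((PrimeSpectrum.isClosed_singleton_iff_isMaximal _).1 h5))
    rw [h4]
    exact IsDiscreteValuationRing.not_a_field R
  let _ := ((pr R' X).stalkMap x').hom.toAlgebra
  have hloc : IsLocalHom (algebraMap (X.left.presheaf.stalk (pr R' X x')) ((bc R' X).left.presheaf.stalk x')) :=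
    inferInstanceAs (IsLocalHom ((pr R' X).stalkMap x').hom)
  have hflm : Module.Flat (X.left.presheaf.stalk (pr R' X x')) ((bc R' X).left.presheaf.stalk x') :=
    Flat.stalkMap (pr R' X) x'
  exact ⟨Groth.Agent.CalgB.RegDer.isRegularLocalRing_of_flat_of_map_eq h3, by
    rw [ringKrullDim_eq_of_map_eq h3, hdim]⟩

include e in
/-- The base change of an arithmetic surface to the completion of the base, if it is integral. -/
theorem isArithSurface {X : Over (Spec (CommRingCat.of R))} (hX : ArSurf.IsArithSurface R X)
    [IsIntegral (bc R' X).left] : ArSurf.IsArithSurface R' (bc R' X) := by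
  have hflat := hX.2.2.2.1
  have hprop : IsProper X.hom := SurfBasic.isProper hX
  have hprop' : IsProper (bc R' X).hom := MorphismProperty.of_isPullback (P := @IsProper) (isPullback_pr X) inferInstance
  have hcomp : CompactSpace (bc R' X).left := QuasiCompact.compactSpace_of_compactSpace (bc R' X).hom
  refine ⟨fun x' => ?_, inferInstance, ?_, ?_, EtMin25A.isProjectiveOver_baseChange X hX.2.2.2.2⟩
  · obtain ⟨y, hy, hyc⟩ := exists_closed_specializes x'
    exact S1597.isRegularLocalRing_of_specializes hy (regular_dim e hX y hyc).1
  · rw [ContractSurf.topologicalKrullDim_eq]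
    apply le_antisymm
    · refine iSup_le fun x' => ?_
      obtain ⟨y, hy, hyc⟩ := exists_closed_specializes x'
      exact (ringKrullDim_stalk_le_of_specializes hy).trans (regular_dim e hX y hyc).2.le
    · obtain ⟨y, hy, hyc⟩ := exists_closed_specializes (genericPoint (bc R' X).left)
      rw [← (regular_dim e hX y hyc).2]
      exact le_iSup (fun x : (bc R' X).left => ringKrullDim ((bc R' X).left.presheaf.stalk x)) y
  · exact inferInstanceAs (Flat (pullback.snd X.hom _))

end K479.CompArith
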