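import Groth.Agent.ArSurf.K479.Pair
import Groth.Agent.Dix.Cast3
import Groth.Agent.Dix.ContractSurf
import Groth.Agent.Dix.NormalSec
import Groth.Agent.Dix.DimClosed
import Groth.Agent.Dix.GenFibre

/-!
# The contraction of vertical curves defined by a globally generated invertible module

`X` a normal fibered surface, proper and flat over a discrete valuation ring `R`, `L` an invertible module generated by
sections, not trivialized by a section on the generic fibre. The Stein factorization of the morphism to projective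
space defined by sections of `L` contracts exactly the vertical curves near which some section of `L` is a
generator.
-/

set_option autoImplicit false
universe u

open AlgebraicGeometry CategoryTheory CategoryTheory.Limits IsLocalRing TopologicalSpace Opposite

namespace K479.Contr

open Groth.Agent Groth.Agent.Dix

/-- Morphisms with `f_* O = O` from normal integral schemes have normal target. -/
theorem isIntegrallyClosed_stalk {X Y : Scheme.{u}} [IsIntegral X] [IsIntegral Y]
    (hX : ∀ x : X, IsIntegrallyClosed (X.presheaf.stalk x)) (f : X ⟶ Y) [Surjective f]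
    (hf : ∀ U : Y.Opens, IsIso (f.app U)) (q : Y) : IsIntegrallyClosed (Y.presheaf.stalk q) := by
  obtain ⟨V, hV, hqV, -⟩ := exists_isAffineOpen_mem_and_subset (U := (⊤ : Y.Opens)) (x := q) trivial
  have hne : Nonempty V := ⟨⟨q, hqV⟩⟩
  obtain ⟨x, hx⟩ := f.surjective q
  have hne' : Nonempty (f ⁻¹ᵁ V : X.Opens) := ⟨⟨x, by change f x ∈ V; rw [hx]; exact hqV⟩⟩
  have h1 : IsIntegrallyClosed Γ(X, f ⁻¹ᵁ V) := NormalSec.isIntegrallyClosed _ fun x _ => hX x
  have h2 := hf V
  have h3 : IsIntegrallyClosed Γ(Y, V) :=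
    IsIntegrallyClosed.of_equiv (asIso (f.app V)).commRingCatIsoToRingEquiv.symm
  let _ := TopCat.Presheaf.algebra_section_stalk Y.presheaf (⟨q, hqV⟩ : V)
  have hloc := hV.isLocalization_stalk ⟨q, hqV⟩
  exact isIntegrallyClosed_of_isLocalization (S := Y.presheaf.stalk q)
    (hV.primeIdealOf ⟨q, hqV⟩).asIdeal.primeCompl (Ideal.primeCompl_le_nonZeroDivisors _)

attribute [local instance] specializationOrder in
/-- Three points give dimension at least two. -/
theorem two_le_of_chain {T : Type*} [TopologicalSpace T] [QuasiSober T] [T0Space T] {a b c : T}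
    (h₁ : a ⤳ b) (h₂ : b ⤳ c) (n₁ : a ≠ b) (n₂ : b ≠ c) : 2 ≤ topologicalKrullDim T := by
  by_contra hcon
  have h3 : topologicalKrullDim T ≤ 1 := by
    rw [not_le] at hcon
    have h6 : topologicalKrullDim T < ((1 : ℕ) : WithBot ℕ∞) + 1 := by
      rw [show ((1 : ℕ) : WithBot ℕ∞) + 1 = 2 by norm_num]
      exact hcon
    have h7 := ENat.WithBot.lt_add_one_iff.mp h6
    exact_mod_cast h7
  have h4 : topologicalKrullDim T = 1 ∨ topologicalKrullDim T ≠ 1 := em _
  rcases h4 with h4 | h4
  · rw [CurvesB.DimOneTop.topologicalKrullDim_eq_one_iff] at h4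
    rcases h4.2 b with h5 | h5
    · exact n₂ (h5 c h₂).symm
    · exact n₁ (h5 a h₁)
  · apply h4
    rw [CurvesB.DimOneTop.topologicalKrullDim_eq_krullDim] at h3 ⊢
    refine le_antisymm h3 ?_
    rw [Order.one_le_krullDim_iff]
    exact ⟨b, a, lt_of_le_not_ge h₁ (fun h : b ⤳ a => n₁ (h₁.antisymm h).eq)⟩

/-- Isomorphism over a smaller open. -/
theorem isIso_restrict_of_le {X Y : Scheme.{u}} (f : X ⟶ Y) {V U : Y.Opens} (h : V ≤ U) [IsIso (f ∣_ U)] :
    IsIso (f ∣_ V) := by
  have e : U.ι ''ᵁ U.ι ⁻¹ᵁ V = V := by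
    simpa [Scheme.Hom.image_preimage_eq_opensRange_inf] using h
  have h1 : IsIso (f ∣_ U ∣_ (U.ι ⁻¹ᵁ V)) := inferInstance
  have h2 := (MorphismProperty.arrow_mk_iso_iff (MorphismProperty.isomorphisms Scheme.{u})
    (morphismRestrictRestrict f U (U.ι ⁻¹ᵁ V))).1 h1
  rw [e] at h2
  exact h2

section

variable {R : Type u} [CommRing R] [IsDomain R] [IsDiscreteValuationRing R]
variable {X : Over (Spec (CommRingCat.of R))}

theorem isClosed_closedPoint : IsClosed ({closedPoint R} : Set (Spec (CommRingCat.of R))) :=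
  (PrimeSpectrum.isClosed_singleton_iff_isMaximal _).2 (maximalIdeal.isMaximal R)

theorem asIdeal_closedPoint_ne : (closedPoint R : PrimeSpectrum R).asIdeal ≠ ⊥ :=
  IsDiscreteValuationRing.not_a_field R

/-- The points of the spectrum of a discrete valuation ring. -/
theorem asIdeal_eq_bot_or (s : Spec (CommRingCat.of R)) : s.asIdeal = ⊥ ∨ s = closedPoint R := by
  by_cases h : s.asIdeal = ⊥
  · exact Or.inl h
  · right
    have h1 : s.asIdeal.IsMaximal := s.isPrime.isMaximal h
    exact PrimeSpectrum.ext (IsLocalRing.eq_maximalIdeal h1)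

/-- Every point of a proper scheme specializes to a point of the closed fibre. -/
theorem exists_specializes_closed [IsProper X.hom] (b : X.left) :
    ∃ c, b ⤳ c ∧ X.hom c = closedPoint R := by
  have h1 : X.hom b ⤳ (closedPoint R : Spec (CommRingCat.of R)) :=
    IsLocalRing.specializes_closedPoint (X.hom b : PrimeSpectrum R)
  have h2 : IsClosed (X.hom '' closure {b}) := X.hom.isClosedMap _ isClosed_closure
  have h3 : (closedPoint R : Spec (CommRingCat.of R)) ∈ X.hom '' closure {b} :=
    h1.mem_closed h2 ⟨b, subset_closure rfl, rfl⟩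
  obtain ⟨c, hc, hc'⟩ := h3
  exact ⟨c, specializes_iff_mem_closure.2 hc, hc'⟩

variable [IsIntegral X.left] [IsProper X.hom]

/-- A proper specialization in the generic fibre of a surface starts at the generic point. -/
theorem eq_genericPoint_of_pair (hdim : topologicalKrullDim X.left ≤ 2) {a b : X.left} (h : a ⤳ b) (hne : a ≠ b)
    (hb : (X.hom b).asIdeal = ⊥) : a = genericPoint X.left := by
  obtain ⟨c, hc, hc'⟩ := exists_specializes_closed b
  by_contra hcon
  refine Pair.false_of_chain hdim (Ne.symm hcon) h hne hc ?_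
  rintro rfl
  rw [hc'] at hb
  exact asIdeal_closedPoint_ne hb

omit [IsProper X.hom] in
/-- The end of a proper specialization in the closed fibre of a surface is a closed point. -/
theorem eq_of_pair [Flat X.hom] (hdim : topologicalKrullDim X.left ≤ 2) {a b : X.left} (h : a ⤳ b) (hne : a ≠ b)
    (ha : X.hom a = closedPoint R) (c : X.left) (hc : b ⤳ c) : c = b := by
  by_contra hcon
  refine Pair.false_of_chain hdim ?_ h hne hc (Ne.symm hcon)
  rintro rfl
  have h1 := GenFibre.asIdeal_hom_genericPoint X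
  rw [ha] at h1
  exact asIdeal_closedPoint_ne h1

omit [IsProper X.hom] in
theorem hom_genericPoint_ne [Flat X.hom] : X.hom (genericPoint X.left) ≠ closedPoint R := by
  intro h
  have h1 := GenFibre.asIdeal_hom_genericPoint X
  rw [h] at h1
  exact asIdeal_closedPoint_ne h1

omit [AlgebraicGeometry.IsIntegral X.left] [IsProper X.hom] in
/-- Vertical curves lie in the closed fibre. -/
theorem hom_vertComp (E : ArSurf.VertComp R X) (z : E.curve.left) : X.hom (E.ι z) = closedPoint R := by
  have h1 : X.hom (E.ι z) = Spec.map (CommRingCat.ofHom (IsLocalRing.residue R)) (E.curve.hom z) := by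
    rw [← Scheme.Hom.comp_apply, E.w, Scheme.Hom.comp_apply]
  rw [h1]
  have h2 : E.curve.hom z = closedPoint (ResidueField R) :=
    Subsingleton.elim (α := PrimeSpectrum (ResidueField R)) _ _
  rw [h2]
  exact IsLocalRing.comap_closedPoint (IsLocalRing.residue R)

omit [AlgebraicGeometry.IsIntegral X.left] [IsProper X.hom] in
/-- A vertical curve has a nontrivial specialization at every point. -/
theorem exists_ne_vertComp (E : ArSurf.VertComp R X) (z : E.curve.left) :
    ∃ w : E.curve.left, w ≠ z ∧ (z ⤳ w ∨ w ⤳ z) := by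
  have hd := E.dim_eq
  rw [CurvesB.DimOneTop.topologicalKrullDim_eq_one_iff] at hd
  by_cases hz : z = genericPoint E.curve.left
  · obtain ⟨⟨x, y, hxy, hne⟩, -⟩ := hd
    have hyz : y ≠ z := by
      rintro rfl
      rw [hz] at hxy hne
      have h1 : genericPoint E.curve.left ⤳ x := _root_.genericPoint_specializes x
      exact hne (h1.antisymm hxy).eq
    refine ⟨y, hyz, Or.inl ?_⟩
    rw [hz]
    exact _root_.genericPoint_specializes y
  · exact ⟨genericPoint E.curve.left, fun h => hz h.symm, Or.inr (_root_.genericPoint_specializes z)⟩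

omit [AlgebraicGeometry.IsIntegral X.left] in
/-- The ring of functions on a vertical curve of a proper scheme is a field. -/
theorem isField_vertComp (E : ArSurf.VertComp R X) : IsField Γ(E.curve.left, ⊤) := by
  have hcl : IsClosedImmersion (Spec.map (CommRingCat.ofHom (IsLocalRing.residue R))) :=
    IsClosedImmersion.spec_of_surjective _ IsLocalRing.residue_surjective
  have h1 : IsProper (E.curve.hom ≫ Spec.map (CommRingCat.ofHom (IsLocalRing.residue R))) := by
    rw [← E.w]
    infer_instance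
  have h2 : IsProper E.curve.hom := IsProper.of_comp _ (Spec.map (CommRingCat.ofHom (IsLocalRing.residue R)))
  exact isField_of_universallyClosed (IsLocalRing.ResidueField R) E.curve.hom

omit [AlgebraicGeometry.IsIntegral X.left] in
/-- Curves mapped into an affine open are contracted. -/
theorem const_of_vertComp {Q : Scheme.{u}} (ψ : X.left ⟶ Q) (V : Q.Opens) (hV : IsAffineOpen V)
    (E : ArSurf.VertComp R X) (h : ∀ e, ψ (E.ι e) ∈ V) (e e' : E.curve.left) : ψ (E.ι e) = ψ (E.ι e') := by
  have h1 := ContractBasic.eq_of_isField_of_range hV (E.ι ≫ ψ) (by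
    rintro _ ⟨z, rfl⟩
    exact h z) (isField_vertComp E) e e'
  exact h1

section main

variable {P : Scheme.{u}} (φ : X.left ⟶ P) [IsProper φ] {J : Type*} (𝒱 : J → P.Opens)
  (h𝒱 : ∀ y : P, ∃ j, y ∈ 𝒱 j) {r : ℕ} (Γ : Fin r → ArSurf.VertComp R X)

include h𝒱 in
/-- No specialization in the generic fibre is contracted. -/
theorem false_of_generic_pair (hdim : topologicalKrullDim X.left ≤ 2)
    (π : P ⟶ Spec (CommRingCat.of R)) (hφ : φ ≫ π = X.hom)
    (hgen : ∀ j, ∃ x : X.left, (X.hom x).asIdeal = ⊥ ∧ φ x ∉ 𝒱 j) {a b : X.left}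
    (h : a ⤳ b) (hne : a ≠ b) (hb : (X.hom b).asIdeal = ⊥) (hab : φ a = φ b) : False := by
  have hpφ : ∀ z, X.hom z = π (φ z) := fun z => by rw [← hφ]; rfl
  have ha := eq_genericPoint_of_pair hdim h hne hb
  obtain ⟨j, hj⟩ := h𝒱 (φ b)
  obtain ⟨x, hx, hxj⟩ := hgen j
  apply hxj
  have h1 : φ a ⤳ φ x := by
    rw [ha]
    exact (_root_.genericPoint_specializes x).map φ.continuous
  rw [hab] at h1
  obtain ⟨d, hd, hdx⟩ : φ x ∈ φ '' closure {b} :=
    h1.mem_closed (φ.isClosedMap _ isClosed_closure) ⟨b, subset_closure rfl, rfl⟩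
  have hbd : b ⤳ d := specializes_iff_mem_closure.2 hd
  have hd0 : (X.hom d).asIdeal = ⊥ := by rw [hpφ, hdx, ← hpφ]; exact hx
  by_cases hbd' : b = d
  · rw [← hdx, ← hbd']
    exact hj
  · exfalso
    apply hne
    rw [ha, eq_genericPoint_of_pair hdim hbd hbd' hd0]

include h𝒱 in
/-- The specializations in the closed fibre which are contracted lie in the given curves. -/
theorem mem_of_special_pair [Flat X.hom] (hdim : topologicalKrullDim X.left ≤ 2)
    (hE : ∀ (E : ArSurf.VertComp R X) (j : J), (∀ e, φ (E.ι e) ∈ 𝒱 j) →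
      ∃ i, Set.range E.ι = Set.range (Γ i).ι) {a b : X.left}
    (h : a ⤳ b) (hne : a ≠ b) (ha : X.hom a = closedPoint R) (hab : φ a = φ b) :
    ∃ i, a ∈ Set.range (Γ i).ι ∧ b ∈ Set.range (Γ i).ι := by
  obtain ⟨E, hEr⟩ := Pair.exists_vertComp_of_pair hdim hom_genericPoint_ne h hne ha
  obtain ⟨j, hj⟩ := h𝒱 (φ b)
  obtain ⟨i, hi⟩ := hE E j (by
    intro e
    have h1 : E.ι e ∈ closure {a} := by
      have h2 : E.ι e ∈ Set.range (E.ι.base : E.curve.left → X.left) := ⟨e, rfl⟩
      rw [hEr] at h2
      exact h2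
    have h2 : φ a ⤳ φ (E.ι e) := (specializes_iff_mem_closure.2 h1).map φ.continuous
    rw [hab] at h2
    obtain ⟨d, hd, hdx⟩ : φ (E.ι e) ∈ φ '' closure {b} :=
      h2.mem_closed (φ.isClosedMap _ isClosed_closure) ⟨b, subset_closure rfl, rfl⟩
    have hd' := eq_of_pair hdim h hne ha d (specializes_iff_mem_closure.2 hd)
    rw [← hdx, hd']
    exact hj)
  have hEr' : Set.range E.ι = closure {a} := hEr
  refine ⟨i, ?_, ?_⟩
  · rw [← hi, hEr']; exact subset_closure rfl
  · rw [← hi, hEr']; exact specializes_iff_mem_closure.1 h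

include h𝒱 in
/-- The quasi-finite points are the points outside of the given curves. -/
theorem quasiFiniteAt_iff [Flat X.hom] (hdim : topologicalKrullDim X.left ≤ 2)
    (π : P ⟶ Spec (CommRingCat.of R)) (hφ : φ ≫ π = X.hom) (haff : ∀ j, IsAffineOpen (𝒱 j))
    (hgen : ∀ j, ∃ x : X.left, (X.hom x).asIdeal = ⊥ ∧ φ x ∉ 𝒱 j)
    (hE : ∀ (E : ArSurf.VertComp R X) (j : J), (∀ e, φ (E.ι e) ∈ 𝒱 j) →
      ∃ i, Set.range E.ι = Set.range (Γ i).ι)
    (hΓ : ∀ i, ∃ j, ∀ e, φ ((Γ i).ι e) ∈ 𝒱 j) (x : X.left) :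
    φ.QuasiFiniteAt x ↔ x ∉ ⋃ i, Set.range (Γ i).ι := by
  have hpφ : ∀ z, X.hom z = π (φ z) := fun z => by rw [← hφ]; rfl
  constructor
  · intro hx hxΓ
    obtain ⟨i, z, rfl⟩ := Set.mem_iUnion.1 hxΓ
    obtain ⟨j, hj⟩ := hΓ i
    obtain ⟨w, hw, hzw⟩ := exists_ne_vertComp (Γ i) z
    have h1 := const_of_vertComp φ (𝒱 j) (haff j) (Γ i) hj w z
    have h2 := Pair.eq_of_quasiFiniteAt φ ((Γ i).ι z) hx ((Γ i).ι w) h1
      (hzw.imp (fun h => h.map (Γ i).ι.continuous) (fun h => h.map (Γ i).ι.continuous))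
    exact hw ((Γ i).ι.isClosedEmbedding.injective h2)
  · intro hx
    refine Pair.quasiFiniteAt_of_pairs φ x fun z hz hxz => ?_
    by_contra hne
    have hp : X.hom z = X.hom x := by rw [hpφ, hz, ← hpφ]
    rcases asIdeal_eq_bot_or (X.hom x) with h0 | h0
    · rcases hxz with h | h
      · exact false_of_generic_pair φ 𝒱 h𝒱 hdim π hφ hgen h (Ne.symm hne) (by rw [hp]; exact h0) hz.symm
      · exact false_of_generic_pair φ 𝒱 h𝒱 hdim π hφ hgen h hne h0 hz
    · apply hx
      rcases hxz with h | h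
      · obtain ⟨i, hi, -⟩ := mem_of_special_pair φ 𝒱 h𝒱 Γ hdim hE h (Ne.symm hne) h0 hz.symm
        exact Set.mem_iUnion.2 ⟨i, hi⟩
      · obtain ⟨i, -, hi⟩ := mem_of_special_pair φ 𝒱 h𝒱 Γ hdim hE h hne (hp.trans h0) hz
        exact Set.mem_iUnion.2 ⟨i, hi⟩

end main

omit [AlgebraicGeometry.IsIntegral X.left] [IsDomain R] [IsDiscreteValuationRing R] in
/-- Finitely many sections suffice. -/
theorem exists_sections [Nonempty X.left] (L : X.left.Modules)
    (hgg : ∀ x : X.left, ∃ t : Coh.structureModule X.left ⟶ L, x ∈ CohB1.genLocus L t)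
    {r : ℕ} (t : Fin r → (Coh.structureModule X.left ⟶ L)) :
    ∃ (n : ℕ) (s : Fin (n + 1) → (Coh.structureModule X.left ⟶ L)),
      ⨆ k, CohB1.genLocus L (s k) = ⊤ ∧ ∀ i, ∃ k, s k = t i := by
  have hc : CompactSpace X.left := QuasiCompact.compactSpace_of_compactSpace X.hom
  choose τ hτ using hgg
  obtain ⟨F, hF⟩ := isCompact_univ.elim_finite_subcover (fun x => (CohB1.genLocus L (τ x) : Set X.left))
    (fun x => (CohB1.genLocus L (τ x)).isOpen) (fun x _ => Set.mem_iUnion.2 ⟨x, hτ x⟩)
  let σ : F ⊕ Fin r → (Coh.structureModule X.left ⟶ L) := Sum.elim (fun x => τ x) t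
  obtain ⟨x₀⟩ := ‹Nonempty X.left›
  obtain ⟨x₁, hx₁, -⟩ := Set.mem_iUnion₂.1 (hF (Set.mem_univ x₀))
  have hne : Nonempty (F ⊕ Fin r) := ⟨Sum.inl ⟨x₁, hx₁⟩⟩
  obtain ⟨N, ⟨e⟩⟩ := Finite.exists_equiv_fin (F ⊕ Fin r)
  obtain ⟨n, rfl⟩ : ∃ n, N = n + 1 := by
    obtain ⟨a⟩ := hne
    exact ⟨N - 1, by have := (e a).2; omega⟩
  refine ⟨n, fun k => σ (e.symm k), ?_, ?_⟩
  · rw [eq_top_iff]
    intro x _
    obtain ⟨y, hy, hxy⟩ := Set.mem_iUnion₂.1 (hF (Set.mem_univ x))
    refine Opens.mem_iSup.2 ⟨e (Sum.inl ⟨y, hy⟩), ?_⟩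
    change x ∈ CohB1.genLocus L (σ (e.symm (e (Sum.inl ⟨y, hy⟩))))
    rw [e.symm_apply_apply]
    exact hxy
  · intro i
    refine ⟨e (Sum.inr i), ?_⟩
    change σ (e.symm (e (Sum.inr i))) = t i
    rw [e.symm_apply_apply]
    rfl

/-- **The contraction defined by a globally generated invertible module.** -/
theorem contraction [Flat X.hom] (hnor : ∀ x : X.left, IsIntegrallyClosed (X.left.presheaf.stalk x))
    (hdim : topologicalKrullDim X.left = 2) {r : ℕ} (Γ : Fin r → ArSurf.VertComp R X) (L : X.left.Modules)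
    (hgg : ∀ x : X.left, ∃ t : Coh.structureModule X.left ⟶ L, x ∈ CohB1.genLocus L t)
    (hgen : ∀ t : Coh.structureModule X.left ⟶ L, ∃ x : X.left, (X.hom x).asIdeal = ⊥ ∧
      x ∉ CohB1.genLocus L t)
    (hΓt : ∀ i, ∃ t : Coh.structureModule X.left ⟶ L,
      Set.range (Γ i).ι ⊆ (CohB1.genLocus L t : Set X.left))
    (hE : ∀ (E : ArSurf.VertComp R X) (t : Coh.structureModule X.left ⟶ L),
      Set.range E.ι ⊆ (CohB1.genLocus L t : Set X.left) → ∃ i, Set.range E.ι = Set.range (Γ i).ι) :
    ∃ (Y : Over (Spec (CommRingCat.of R))) (f : X ⟶ Y),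
      IsIntegral Y.left ∧ (∀ q : Y.left, IsIntegrallyClosed (Y.left.presheaf.stalk q)) ∧
      topologicalKrullDim Y.left = 2 ∧ Flat Y.hom ∧ Neron.IsProjectiveOver R Y ∧
      IsProper f.left ∧ Surjective f.left ∧ (∀ U : Y.left.Opens, IsIso (f.left.app U)) ∧
      (∀ i, ∃ y : Y.left, Set.range (((Γ i).ι ≫ f.left).base : (Γ i).curve.left → Y.left) = {y}) ∧
      f.left.base ⁻¹' (f.left.base '' ⋃ i, Set.range (Γ i).ι.base) = ⋃ i, Set.range (Γ i).ι.base ∧
      ∀ V : Y.left.Opens, (V : Set Y.left) ∩ f.left.base '' (⋃ i, Set.range (Γ i).ι.base) = ∅ →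
        IsIso (f.left ∣_ V) := by
  choose t ht using hΓt
  obtain ⟨n, s, hs, hst⟩ := exists_sections L hgg t
  obtain ⟨φ, hφ, hk⟩ := VarietyA.ProjMor.exists_hom_projSpace X.hom s hs
  have hsep : IsSeparated (CohB1.ProjSpace.toSpec n R) := inferInstance
  have hprop : IsProper (φ ≫ CohB1.ProjSpace.toSpec n R) := by rw [hφ]; infer_instance
  have hφp : IsProper φ := IsProper.of_comp φ (CohB1.ProjSpace.toSpec n R)
  have hNoeth : IsLocallyNoetherian (CohB1.ProjSpace n R) :=
    LocallyOfFiniteType.isLocallyNoetherian (CohB1.ProjSpace.toSpec n R)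
  have hfin : IsFinite φ.fromNormalization := S1297.result φ
  let P : Fin (n + 1) → (CohB1.ProjSpace n R).Opens := fun k =>
    Proj.basicOpen (CohB1.polyGrading n R) (MvPolynomial.X k : MvPolynomial (Fin (n + 1)) R)
  have hPaff : ∀ k, IsAffineOpen (P k) := fun k =>
    Proj.isAffineOpen_basicOpen (CohB1.polyGrading n R) (m := 1) _
      (MvPolynomial.isHomogeneous_X _ k) Nat.one_pos
  have hPk : ∀ k, φ ⁻¹ᵁ (P k) = CohB1.genLocus L (s k) := hk
  have hPm : ∀ k x, φ x ∈ P k ↔ x ∈ CohB1.genLocus L (s k) := fun k x => by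
    rw [← hPk]; rfl
  have hPcov : ∀ y, ∃ k, y ∈ P k := fun y => PerfB.ProjSpaceCover.exists_mem_basicOpen_X n R y
  -- the quasi-finite locus
  have hqf := quasiFiniteAt_iff φ P hPcov Γ hdim.le (CohB1.ProjSpace.toSpec n R) hφ hPaff
    (fun k => by
      obtain ⟨x, hx, hxk⟩ := hgen (s k)
      exact ⟨x, hx, fun h => hxk ((hPm k x).1 h)⟩)
    (fun E k h => hE E (s k) (by
      rintro _ ⟨e, rfl⟩
      exact (hPm k _).1 (h e)))
    (fun i => by
      obtain ⟨k, hk'⟩ := hst i
      refine ⟨k, fun e => (hPm k _).2 ?_⟩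
      rw [hk']
      exact ht i ⟨e, rfl⟩)
  obtain ⟨U, hU, hfU⟩ := φ.exists_isIso_morphismRestrict_toNormalization
  have hfU' : ∀ x : X.left, φ.toNormalization x ∈ U ↔ x ∉ ⋃ i, Set.range (Γ i).ι := by
    intro x
    rw [← hqf x]
    exact Set.ext_iff.1 hfU x
  have hf1 : φ.toNormalization ≫ φ.fromNormalization = φ := Scheme.Hom.toNormalization_fromNormalization φ
  have hfp : IsProper φ.toNormalization := by
    have : IsProper (φ.toNormalization ≫ φ.fromNormalization) := by rw [hf1]; exact hφp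
    exact IsProper.of_comp _ φ.fromNormalization
  have hfsurj : Surjective φ.toNormalization := inferInstance
  have hfapp : ∀ V : φ.normalization.Opens, IsIso (φ.toNormalization.app V) := fun V => S1340.result φ V
  have hYint : IsIntegral φ.normalization := inferInstance
  let q : φ.normalization ⟶ Spec (CommRingCat.of R) := φ.fromNormalization ≫ CohB1.ProjSpace.toSpec n R
  have hfq : φ.toNormalization ≫ q = X.hom := by
    rw [← Category.assoc, hf1, hφ]
  have hpf : ∀ z, X.hom z = q (φ.toNormalization z) := fun z => by rw [← hfq]; rfl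
  have hinj : ∀ x y : X.left, x ∉ ⋃ i, Set.range (Γ i).ι → φ.toNormalization x = φ.toNormalization y → x = y := by
    intro x y hx hxy
    have h1 : φ.toNormalization x ∈ U := (hfU' x).2 hx
    have h2 : φ.toNormalization y ∈ U := hxy ▸ h1
    have h3 : (φ.toNormalization ∣_ U) ⟨x, h1⟩ = (φ.toNormalization ∣_ U) ⟨y, h2⟩ := Subtype.ext (by
      have e1 := morphismRestrict_base_coe φ.toNormalization U ⟨x, h1⟩
      have e2 := morphismRestrict_base_coe φ.toNormalization U ⟨y, h2⟩
      exact e1.trans (hxy.trans e2.symm))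
    have h4 := (φ.toNormalization ∣_ U).homeomorph.injective h3
    exact congrArg Subtype.val h4
  have hflat : Flat q := by
    have : Flat (φ.toNormalization ≫ q) := by rw [hfq]; infer_instance
    have : IsDominant φ.toNormalization := inferInstance
    exact ContractSurf.flat_of_dominant φ.toNormalization q
  have hYn : ∀ y : φ.normalization, IsIntegrallyClosed (φ.normalization.presheaf.stalk y) :=
    isIntegrallyClosed_stalk hnor φ.toNormalization hfapp
  refine ⟨Over.mk q, Over.homMk φ.toNormalization hfq, hYint, hYn, ?_, hflat,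
    ?_, hfp, hfsurj, hfapp, ?_, ?_, ?_⟩
  · -- the dimension
    change topologicalKrullDim φ.normalization = 2
    refine le_antisymm ?_ ?_
    · rw [← hdim]
      exact DimClosed.topologicalKrullDim_le_of_isClosedMap φ.toNormalization φ.toNormalization.isClosedMap
        φ.toNormalization.surjective
    · obtain ⟨τ, hτ⟩ := hgg (genericPoint X.left)
      obtain ⟨x, hx, hxτ⟩ := hgen τ
      obtain ⟨c, hc, hc'⟩ := exists_specializes_closed x
      have h1 : φ.toNormalization (genericPoint X.left) ⤳ φ.toNormalization x :=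
        (_root_.genericPoint_specializes x).map φ.toNormalization.continuous
      have h2 : φ.toNormalization x ⤳ φ.toNormalization c := hc.map φ.toNormalization.continuous
      refine two_le_of_chain h1 h2 ?_ ?_
      · intro h
        have h3 := hinj (genericPoint X.left) x (by
          intro h4
          obtain ⟨i, z, hz⟩ := Set.mem_iUnion.1 h4
          apply hom_genericPoint_ne (X := X)
          rw [← hz]
          exact hom_vertComp (Γ i) z) h
        rw [← h3] at hxτ
        exact hxτ hτ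
      · intro h
        have h3 : X.hom x = X.hom c := by rw [hpf, h, ← hpf]
        rw [h3, hc'] at hx
        exact asIdeal_closedPoint_ne hx
  · -- projectivity
    have hamp : CohB1.IsAmple ((Scheme.Modules.pullback φ.fromNormalization).obj
        (Twist.twistProjSpace n R 1)) :=
      Flat2H.FamOpen.isAmple_pullback_of_isAffineHom φ.fromNormalization
        (VarietyA.AmpleField.isAmple_twistProjSpace n R)
    have hq : IsProper (φ.fromNormalization ≫ CohB1.ProjSpace.toSpec n R) :=
      MorphismProperty.comp_mem (W := @IsProper) _ _ inferInstance inferInstance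
    obtain ⟨m, i, hi, hi'⟩ := (S1496.result
      ⟨_, Ega2.Weight.isAmple_structureModule (Spec (CommRingCat.of R))⟩
      (φ.fromNormalization ≫ CohB1.ProjSpace.toSpec n R)).1.2 ⟨hq, _, hamp⟩
    exact ⟨m, i, hi, hi'⟩
  · -- the curves are contracted
    intro i
    obtain ⟨k, hk'⟩ := hst i
    refine ⟨φ.toNormalization ((Γ i).ι (genericPoint (Γ i).curve.left)), ?_⟩
    have hc : ∀ e : (Γ i).curve.left, φ.toNormalization ((Γ i).ι e) =
        φ.toNormalization ((Γ i).ι (genericPoint (Γ i).curve.left)) := by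
      intro e
      refine const_of_vertComp φ.toNormalization (φ.fromNormalization ⁻¹ᵁ P k)
        ((hPaff k).preimage φ.fromNormalization) (Γ i) (fun e => ?_) e _
      change φ.fromNormalization (φ.toNormalization ((Γ i).ι e)) ∈ P k
      rw [← Scheme.Hom.comp_apply, hf1, hPm, hk']
      exact ht i ⟨e, rfl⟩
    ext z
    constructor
    · rintro ⟨e, rfl⟩
      exact hc e
    · rintro rfl
      exact ⟨_, rfl⟩
  · -- the preimage of the image of the curves
    refine Set.Subset.antisymm ?_ (Set.subset_preimage_image _ _)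
    rintro x ⟨y, hy, hxy⟩
    by_contra hx
    have hxy' : x = y := hinj x y hx hxy.symm
    exact hx (hxy' ▸ hy)
  · -- isomorphism outside
    intro V hV
    have hVU : V ≤ U := by
      intro v hv
      obtain ⟨x, rfl⟩ := φ.toNormalization.surjective v
      refine (hfU' x).2 fun hx => ?_
      have h1 : φ.toNormalization x ∈ (∅ : Set φ.normalization) := by
        rw [← hV]
        exact ⟨hv, x, hx, rfl⟩
      exact h1
    exact isIso_restrict_of_le φ.toNormalization hVU

end

end K479.Contr
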