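import Groth.Agent.Picfga.SecGraph
import Groth.Agent.Ega1.ReducedSub
import Groth.Agent.Pi1A.QuotBase2
import Groth.Agent.Models.H50.PointInter
import Groth.Agent.Dix.PointIdeal
import Groth.Agent.Ega4late.H533.DescScheme
import Groth.Agent.CalgB.RegDer
import Groth.Agent.Ega4A.RegEtale
import Groth.Agent.S1597
import Groth.Agent.Dix.MinusPush
import Groth.Agent.Dix.EtMin25A
import Groth.Agent.Dix.ContractSurf
import Groth.Agent.ArSurf.K480.SurfDim
import Groth.Agent.ArSurf.K479.Contr

/-!
# Base change along a morphism which is an isomorphism over a closed subscheme of the base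
-/

set_option autoImplicit false
universe u
open AlgebraicGeometry CategoryTheory CategoryTheory.Limits IsLocalRing TopologicalSpace

namespace K479.CompBC

open Groth.Agent Groth.Agent.Dix Groth.Agent.Dix.PointIdeal Groth.Agent.Divis.CartierBasic

section Abstract

variable {S S' T X X' : Scheme.{u}} {g : S' ⟶ S} {c' : T ⟶ S'} {c : T ⟶ S}
  (hpb : IsPullback c' (𝟙 T) g c) {f : X ⟶ S} {j : X' ⟶ X} {f' : X' ⟶ S'} (hX : IsPullback j f' f g)
include hpb hX

/-- A scheme over the closed part `T` of the base is unchanged by the base change. -/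
theorem isPullback_of_comp {P : Scheme.{u}} (i : P ⟶ X') (b : P ⟶ T) (h : i ≫ f' = b ≫ c') :
    IsPullback i (𝟙 P) j (i ≫ j) := by
  have h1 : IsPullback b (𝟙 P) (𝟙 T) b := IsPullback.of_vert_isIso ⟨by simp⟩
  have h2 := h1.paste_horiz hpb
  have hw : c' ≫ g = c := by simpa using hpb.w
  refine IsPullback.of_right (h₁₂ := f') (h₂₂ := f) (v₁₃ := g) ?_ (by simp) hX.flip
  rw [h, Category.assoc, hX.w, ← Category.assoc, h, Category.assoc, hw]
  exact h2

theorem exists_lift {P : Scheme.{u}} (ι : P ⟶ X) (b : P ⟶ T) (h : ι ≫ f = b ≫ c) :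
    ∃ i : P ⟶ X', i ≫ j = ι ∧ i ≫ f' = b ≫ c' ∧ IsPullback i (𝟙 P) j ι := by
  have hw : c' ≫ g = c := by simpa using hpb.w
  have h1 : ι ≫ f = (b ≫ c') ≫ g := by rw [h, Category.assoc, hw]
  have h2 := isPullback_of_comp hpb hX (hX.lift ι (b ≫ c') h1) b (hX.lift_snd _ _ _)
  rw [hX.lift_fst] at h2
  exact ⟨hX.lift ι (b ≫ c') h1, hX.lift_fst _ _ _, hX.lift_snd _ _ _, h2⟩

theorem isClosedImmersion_comp [IsClosedImmersion c] {P : Scheme.{u}} (i : P ⟶ X') [IsClosedImmersion i]
    (b : P ⟶ T) (h : i ≫ f' = b ≫ c') : IsClosedImmersion (i ≫ j) := by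
  have hw : c' ≫ g = c := by simpa using hpb.w
  obtain ⟨m, hm, hm', hmp⟩ := exists_lift hpb hX (pullback.fst f c) (pullback.snd f c) pullback.condition
  have hmc : IsClosedImmersion m := MorphismProperty.of_isPullback (P := @IsClosedImmersion) hmp.flip inferInstance
  let l : P ⟶ pullback f c := pullback.lift (i ≫ j) b (by
    rw [Category.assoc, hX.w, ← Category.assoc, h, Category.assoc, hw])
  have hl : l ≫ m = i := by
    apply hX.hom_ext
    · rw [Category.assoc, hm, pullback.lift_fst]
    · rw [Category.assoc, hm', ← Category.assoc, pullback.lift_snd, h]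
  have hlm : IsClosedImmersion (l ≫ m) := by rw [hl]; infer_instance
  have hlc : IsClosedImmersion l := IsClosedImmersion.of_comp l m
  have h2 : l ≫ pullback.fst f c = i ≫ j := pullback.lift_fst _ _ _
  rw [← h2]
  infer_instance

end Abstract

section Abstract

variable {S S' T X X' : Scheme.{u}} {g : S' ⟶ S} {c' : T ⟶ S'} {c : T ⟶ S}
  (hpb : IsPullback c' (𝟙 T) g c) {f : X ⟶ S} {j : X' ⟶ X} {f' : X' ⟶ S'} (hX : IsPullback j f' f g)
include hpb hX

/-- The closed points of `X'` over `T`. -/
theorem closed_point [IsClosedImmersion c] (x' : X') (hx' : IsClosed ({x'} : Set X'))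
    (b : (pt x' hx').subscheme ⟶ T) (hb : (pt x' hx').subschemeι ≫ f' = b ≫ c') :
    IsClosed ({j x'} : Set X) ∧
      (maximalIdeal (X.presheaf.stalk (j x'))).map (j.stalkMap x').hom =
        maximalIdeal (X'.presheaf.stalk x') := by
  set i := (pt x' hx').subschemeι with hi
  have hker : i.ker = pt x' hx' := Scheme.IdealSheafData.ker_subschemeι _
  have hcl := isClosedImmersion_comp hpb hX i b hb
  have hp := isPullback_of_comp hpb hX i b hb
  have hrange : Set.range (i ≫ j) = {j x'} := by
    have h1 : Set.range i = {x'} := by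
      rw [Scheme.IdealSheafData.range_subschemeι]
      exact Scheme.IdealSheafData.coe_support_vanishingIdeal _
    have h2 : Set.range (i ≫ j) = j '' Set.range i := by
      rw [← Set.range_comp]; rfl
    rw [h2, h1, Set.image_singleton]
  have hx : IsClosed ({j x'} : Set X) := by
    rw [← hrange]
    exact (i ≫ j).isClosedEmbedding.isClosed_range
  refine ⟨hx, ?_⟩
  have hred : IsReduced (pt x' hx').subscheme := Ega1.ReducedSub.isReduced_subscheme_vanishingIdeal _
  have hker2 : (i ≫ j).ker = pt (j x') hx := by
    rw [Models.H50.PointInter.ker_eq_vanishingIdeal]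
    congr 1
    apply TopologicalSpace.Closeds.ext
    change closure (Set.range (i ≫ j)) = {j x'}
    rw [hrange, hx.closure_eq]
  have h3 : i.ker = (i ≫ j).ker.comap j := Picfga.SecGraph.ker_eq_comap_of_isPullback hp.flip
  rw [hker, hker2] at h3
  have h4 := Ega4late.H533.DescScheme.stalkIdeal_comap (f := j) (pt (j x') hx) x'
  rw [← h3, stalkIdeal_pt, stalkIdeal_pt] at h4
  exact h4.symm

end Abstract

/-- Factorization of a morphism from a reduced scheme with values in a closed point. -/
theorem exists_factor {A k : Type u} [CommRing A] [Field k] (π : A →+* k) (hπ : Function.Surjective π)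
    {P : Scheme.{u}} [IsReduced P] (f : P ⟶ Spec (CommRingCat.of A))
    (h : ∀ x, RingHom.ker π ≤ (f x).asIdeal) :
    ∃ b : P ⟶ Spec (CommRingCat.of k), b ≫ Spec.map (CommRingCat.ofHom π) = f := by
  have hcl : IsClosedImmersion (Spec.map (CommRingCat.ofHom π)) :=
    IsClosedImmersion.spec_of_surjective _ hπ
  have h1 : (Spec.map (CommRingCat.ofHom π)).ker ≤ f.ker := by
    rw [Models.H50.PointInter.ker_eq_vanishingIdeal, Models.H50.PointInter.ker_eq_vanishingIdeal]
    apply Scheme.IdealSheafData.vanishingIdeal_antimono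
    have h2 : Set.range (Spec.map (CommRingCat.ofHom π)) = PrimeSpectrum.zeroLocus (RingHom.ker π) :=
      range_comap_of_surjective _ π hπ
    refine closure_mono ?_
    rintro _ ⟨x, rfl⟩
    rw [h2]
    exact h x
  exact ⟨IsClosedImmersion.lift _ _ h1, IsClosedImmersion.lift_fac _ _ h1⟩

section Completion

variable {R : Type u} [CommRing R] [IsDomain R] [IsDiscreteValuationRing R]
  {R' : Type u} [CommRing R'] [IsDomain R'] [IsDiscreteValuationRing R'] [Algebra R R']
  (e : R' ≃ₐ[R] AdicCompletion (IsLocalRing.maximalIdeal R) R)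

include e

omit [IsDomain R'] [IsDiscreteValuationRing R'] in
theorem flat_of_completion : Module.Flat R R' := by
  have : Module.Flat R (AdicCompletion (IsLocalRing.maximalIdeal R) R) :=
    AdicCompletion.flat_of_isNoetherian (IsLocalRing.maximalIdeal R)
  exact Module.Flat.of_linearEquiv e.toLinearEquiv

theorem exists_residue : ∃ π' : R' →+* ResidueField R, Function.Surjective π' ∧
    RingHom.ker π' = maximalIdeal R' ∧ (maximalIdeal R).map (algebraMap R R') = maximalIdeal R' ∧
    IsPullback (Spec.map (CommRingCat.ofHom π')) (𝟙 _) (Spec.map (CommRingCat.ofHom (algebraMap R R')))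
      (Spec.map (CommRingCat.ofHom (residue R))) := by
  have hfg : (maximalIdeal R).FG := IsNoetherian.noetherian _
  let ψ : R' →+* ResidueField R :=
    ((AdicCompletion.evalOneₐ (maximalIdeal R)).toRingHom).comp e.toRingEquiv.toRingHom
  have hψ : Function.Surjective ψ :=
    (AdicCompletion.evalOneₐ_surjective (maximalIdeal R)).comp e.surjective
  have hker : RingHom.ker ψ = (maximalIdeal R).map (algebraMap R R') := by
    have h1 := AdicCompletion.ker_evalOneₐ_eq_map (maximalIdeal R) hfg
    have h2 : RingHom.ker ψ = (RingHom.ker (AdicCompletion.evalOneₐ (maximalIdeal R)).toRingHom).comap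
        e.toRingEquiv.toRingHom := rfl
    rw [h2, h1]
    have h3 : (maximalIdeal R).map (algebraMap R (AdicCompletion (maximalIdeal R) R)) =
        ((maximalIdeal R).map (algebraMap R R')).map e.toRingEquiv.toRingHom := by
      rw [Ideal.map_map]
      congr 1
      refine RingHom.ext fun x => ?_
      exact (e.commutes x).symm
    rw [h3]
    exact Ideal.comap_map_of_bijective _ e.bijective
  have hmax : (RingHom.ker ψ).IsMaximal := RingHom.ker_isMaximal_of_surjective ψ hψ
  have hker' : RingHom.ker ψ = maximalIdeal R' := eq_maximalIdeal hmax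
  refine ⟨ψ, hψ, hker', hker.symm.trans hker', ?_⟩
  obtain ⟨ρ, hρ, hpb⟩ := Pi1A.QuotBase.isPullback_Spec_of_ker (maximalIdeal R) (algebraMap R R') ψ hψ hker
  have hρ' : ρ = RingHom.id (ResidueField R) := by
    refine Ideal.Quotient.ringHom_ext ?_
    ext x
    refine (hρ x).trans ?_
    change (AdicCompletion.evalOneₐ (maximalIdeal R)) (e (algebraMap R R' x)) = _
    rw [e.commutes]
    exact (AdicCompletion.evalOneₐ (maximalIdeal R)).commutes x
  have key : ∀ σ : ResidueField R →+* ResidueField R, σ = RingHom.id (ResidueField R) →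
      IsPullback (Spec.map (CommRingCat.ofHom ψ)) (Spec.map (CommRingCat.ofHom σ))
        (Spec.map (CommRingCat.ofHom (algebraMap R R'))) (Spec.map (CommRingCat.ofHom (residue R))) →
      IsPullback (Spec.map (CommRingCat.ofHom ψ)) (𝟙 _)
        (Spec.map (CommRingCat.ofHom (algebraMap R R'))) (Spec.map (CommRingCat.ofHom (residue R))) := by
    rintro _ rfl h
    have hid : Spec.map (CommRingCat.ofHom (RingHom.id (ResidueField R))) =
        𝟙 (Spec (CommRingCat.of (ResidueField R))) := Spec.map_id _
    rwa [hid] at h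
  exact key ρ hρ' hpb

variable (X : Over (Spec (CommRingCat.of R)))

/-- The base change of a scheme over `R` to `R'`. -/
noncomputable abbrev bc (R' : Type u) [CommRing R'] [Algebra R R'] (X : Over (Spec (CommRingCat.of R))) :
    Over (Spec (CommRingCat.of R')) :=
  (Over.pullback (Spec.map (CommRingCat.ofHom (algebraMap R R')))).obj X

/-- The projection of the base change. -/
noncomputable abbrev pr (R' : Type u) [CommRing R'] [Algebra R R'] (X : Over (Spec (CommRingCat.of R))) :
    (bc R' X).left ⟶ X.left :=
  pullback.fst X.hom (Spec.map (CommRingCat.ofHom (algebraMap R R')))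

omit e [IsDomain R] [IsDiscreteValuationRing R] [IsDomain R'] [IsDiscreteValuationRing R'] in
theorem isPullback_pr : IsPullback (pr R' X) (bc R' X).hom X.hom
    (Spec.map (CommRingCat.ofHom (algebraMap R R'))) :=
  IsPullback.of_hasPullback _ _

theorem flat_pr : Flat (pr R' X) := by
  have h1 := flat_of_completion e
  have h2 : Flat (Spec.map (CommRingCat.ofHom (algebraMap R R'))) := by
    rw [HasRingHomProperty.Spec_iff (P := @Flat)]
    exact (RingHom.flat_algebraMap_iff (R := R) (S := R')).2 h1
  exact MorphismProperty.of_isPullback (P := @Flat) (isPullback_pr X).flip h2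

/-- Closed points of the base change of a proper scheme. -/
theorem closed_point_bc [IsProper X.hom] (x' : (bc R' X).left)
    (hx' : IsClosed ({x'} : Set (bc R' X).left)) :
    (bc R' X).hom x' = closedPoint R' ∧ IsClosed ({pr R' X x'} : Set X.left) ∧
      (maximalIdeal (X.left.presheaf.stalk (pr R' X x'))).map ((pr R' X).stalkMap x').hom =
        maximalIdeal ((bc R' X).left.presheaf.stalk x') := by
  obtain ⟨π', hπ', hker, hmap, hpb⟩ := exists_residue e
  have hprop : IsProper (bc R' X).hom := MorphismProperty.of_isPullback (P := @IsProper) (isPullback_pr X) inferInstance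
  have h1 : (bc R' X).hom x' = closedPoint R' := by
    have h2 : IsClosed ({(bc R' X).hom x'} : Set (Spec (CommRingCat.of R'))) := by
      rw [← Set.image_singleton]
      exact (bc R' X).hom.isClosedMap _ hx'
    exact PrimeSpectrum.ext (eq_maximalIdeal ((PrimeSpectrum.isClosed_singleton_iff_isMaximal _).1 h2))
  refine ⟨h1, ?_⟩
  have hred : IsReduced (pt x' hx').subscheme := Ega1.ReducedSub.isReduced_subscheme_vanishingIdeal _
  obtain ⟨b, hb⟩ := exists_factor π' hπ' ((pt x' hx').subschemeι ≫ (bc R' X).hom) (by
    intro z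
    have h2 : (pt x' hx').subschemeι z ∈ Set.range (pt x' hx').subschemeι := ⟨z, rfl⟩
    rw [Scheme.IdealSheafData.range_subschemeι] at h2
    have h3 : (pt x' hx').subschemeι z = x' := (mem_support_pt x' hx' _).1 h2
    rw [Scheme.Hom.comp_apply, h3, h1, hker]
    rfl)
  have hcl : IsClosedImmersion (Spec.map (CommRingCat.ofHom (residue R))) :=
    IsClosedImmersion.spec_of_surjective _ residue_surjective
  exact closed_point hpb (isPullback_pr X) x' hx' b hb.symm

end Completion

end K479.CompBC
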