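import Groth.Agent.ArSurf.K479.CompArith
import Groth.Agent.Models.H54.DimDrop
import Groth.Agent.Models.H52.ContrStep
import Groth.Agent.Models.H36.FibreFact
import Groth.Agent.Dix.MinusLift515
import Groth.Agent.Dix.MinusDisjoint490
import Groth.Agent.Dix.MinimalUnique

/-!
# (-1)-curves and base change to the completion of the base
-/

set_option autoImplicit false
universe u
open AlgebraicGeometry CategoryTheory CategoryTheory.Limits IsLocalRing TopologicalSpace

namespace K479.CompMinus

open Groth.Agent Groth.Agent.Dix Groth.Agent.Dix.GenFibre Groth.Agent.Dix.ExcPts Groth.Agent.Dix.FibreMin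
open Groth.Agent.Dix.MinusCurve Groth.Agent.Models.H52.ContrStep
open Groth.Agent.Dix.PointIdeal K479.CompBC

section Abstract

variable {P W V : Scheme.{u}} {j : W ⟶ V} {ι : P ⟶ V} {i : P ⟶ W} (hp : IsPullback i (𝟙 P) j ι)

include hp

theorem comp_eq : i ≫ j = ι := by simpa using hp.w

theorem isClosedImmersion_of_isPullback [IsClosedImmersion ι] : IsClosedImmersion i :=
  MorphismProperty.of_isPullback (P := @IsClosedImmersion) hp.flip inferInstance

theorem ker_eq_comap [IsClosedImmersion ι] : i.ker = ι.ker.comap j :=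
  Picfga.SecGraph.ker_eq_comap_of_isPullback hp.flip

theorem eff_ker [Flat j] [IsClosedImmersion ι] (h : BlowUp.IsEffCartierIdeal ι.ker) :
    BlowUp.IsEffCartierIdeal i.ker := by
  rw [ker_eq_comap hp]
  exact Divis.EffCartier.isEff_comap_flat h j

theorem nonempty_pullback_iso [Flat j] [IsClosedImmersion ι] (h : BlowUp.IsEffCartierIdeal ι.ker) :
    Nonempty ((Scheme.Modules.pullback i).obj (ClSub.idealMod i.ker) ≅
      (Scheme.Modules.pullback ι).obj (ClSub.idealMod ι.ker)) := by
  have h1 := eff_ker hp h
  have h2 := ker_eq_comap hp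
  obtain ⟨e⟩ := IdealModCartier.pullback_idealMod j h (by rw [← h2]; exact h1)
  rw [← h2] at e
  have h3 := comp_eq hp
  subst h3
  exact ⟨(Scheme.Modules.pullback i).mapIso e.symm ≪≫ (Scheme.Modules.pullbackComp i j).app _⟩

end Abstract

/-- An integral curve in the closed fibre of an arithmetic surface is an effective Cartier divisor. -/
theorem isEffCartierIdeal_ker {R : Type u} [CommRing R] [IsDomain R] [IsDiscreteValuationRing R]
    {X : Over (Spec (CommRingCat.of R))} (hX : ArSurf.IsArithSurface R X) {P : Scheme.{u}} [IsIntegral P]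
    (ι : P ⟶ X.left) [IsClosedImmersion ι] (hne : ∃ a b : P, a ≠ b)
    (hs : ∀ p, X.hom (ι p) = closedPoint R) : BlowUp.IsEffCartierIdeal ι.ker := by
  have hint := hX.2.1
  have hflat := hX.2.2.2.1
  have hprop : IsProper X.hom := SurfBasic.isProper hX
  have hnoe : IsLocallyNoetherian X.left := LocallyOfFiniteType.isLocallyNoetherian X.hom
  obtain ⟨a, b, hab⟩ := hne
  have h1 : IsIntegral ι.ker.subscheme := Models.H36.FibreFact.isIntegral_ker_subscheme ι
  have hη : ι (genericPoint P) ∈ minSet X := by
    obtain ⟨c, hc⟩ : ∃ c, genericPoint P ≠ c := by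
      by_cases h : genericPoint P = a
      · exact ⟨b, by rw [h]; exact hab⟩
      · exact ⟨a, h⟩
    refine isMinPt_of_ne hX (x := ι c) ?_ ?_ (hs _)
    · exact ((genericPoint_spec P).specializes trivial).map ι.continuous
    · intro h
      exact hc (ι.isClosedEmbedding.injective h)
  refine Groth.Agent.S1684.result X.left ι.ker ?_ ?_
  · rw [Models.H36.FibreFact.subschemeι_genericPoint]
    exact Models.H54.DimDrop.ringKrullDim_stalk_eq_one X _ hη.1 hη.2
  · intro x _
    have := hX.1 x
    exact Groth.Agent.S2821.result _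

variable {R : Type u} [CommRing R] [IsDomain R] [IsDiscreteValuationRing R]

/-- Proper connected curves over a field in the closed fibre. -/
theorem hom_eq_closedPoint {X : Over (Spec (CommRingCat.of R))} [IsProper X.hom] (E : MinusCurve X.left) (x) :
    X.hom (E.ι x) = closedPoint R := by
  obtain ⟨t, ht⟩ := IsDiscreteValuationRing.exists_irreducible R
  have htm : t ∈ IsLocalRing.maximalIdeal R := by
    rw [IsLocalRing.mem_maximalIdeal, mem_nonunits_iff]
    exact ht.not_isUnit
  have h3 := MinusDisjoint490.mem_asIdeal_of_isProper (E.ι ≫ X.hom) htm x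
  rcases Contr.asIdeal_eq_bot_or (X.hom (E.ι x)) with h4 | h4
  · change t ∈ (X.hom (E.ι x)).asIdeal at h3
    rw [h4] at h3
    exact absurd h3 ht.ne_zero
  · exact h4

variable {R' : Type u} [CommRing R'] [IsDomain R'] [IsDiscreteValuationRing R'] [Algebra R R']
  (e : R' ≃ₐ[R] AdicCompletion (IsLocalRing.maximalIdeal R) R)

include e in
theorem nonempty_minusCurve_bc {X : Over (Spec (CommRingCat.of R))} [IsProper X.hom] (E : MinusCurve X.left) :
    Nonempty (MinusCurve (bc R' X).left) := by
  obtain ⟨π', hπ', hker, hmap, hpb⟩ := exists_residue e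
  have hfl := flat_pr e X
  obtain ⟨b, hb⟩ := exists_factor (residue R) residue_surjective (E.ι ≫ X.hom) (by
    intro z
    rw [Scheme.Hom.comp_apply, hom_eq_closedPoint, ker_residue]
    rfl)
  obtain ⟨i, hi, hi', hp⟩ := exists_lift hpb (isPullback_pr (R' := R') X) E.ι b hb.symm
  have hcl : IsClosedImmersion i := isClosedImmersion_of_isPullback hp
  obtain ⟨e⟩ := nonempty_pullback_iso hp E.eff
  refine ⟨⟨E.k, i, eff_ker hp E.eff, ?_⟩⟩
  rw [← E.deg]
  exact MinusPush.curveDeg_congr E.k _ e

include e in
theorem nonempty_minusCurve_of_bc {X : Over (Spec (CommRingCat.of R))} (hX : ArSurf.IsArithSurface R X)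
    (E : MinusCurve (bc R' X).left) : Nonempty (MinusCurve X.left) := by
  have hprop : IsProper X.hom := SurfBasic.isProper hX
  have hprop' : IsProper (bc R' X).hom := MorphismProperty.of_isPullback (P := @IsProper) (isPullback_pr X) inferInstance
  obtain ⟨π', hπ', hker, hmap, hpb⟩ := exists_residue e
  have hfl := flat_pr e X
  obtain ⟨b, hb⟩ := exists_factor π' hπ' (E.ι ≫ (bc R' X).hom) (by
    intro z
    rw [Scheme.Hom.comp_apply, hom_eq_closedPoint, hker]
    rfl)
  have hcl : IsClosedImmersion (Spec.map (CommRingCat.ofHom (residue R))) :=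
    IsClosedImmersion.spec_of_surjective _ residue_surjective
  have hcl' := isClosedImmersion_comp hpb (isPullback_pr (R' := R') X) E.ι b hb.symm
  have hp := isPullback_of_comp hpb (isPullback_pr (R' := R') X) E.ι b hb.symm
  have heff : BlowUp.IsEffCartierIdeal (E.ι ≫ pr R' X).ker := by
    refine isEffCartierIdeal_ker hX (E.ι ≫ pr R' X) (MinimalUnique.exists_ne E.k) ?_
    intro p
    have hw : Spec.map (CommRingCat.ofHom π') ≫ Spec.map (CommRingCat.ofHom (algebraMap R R')) =
        Spec.map (CommRingCat.ofHom (residue R)) := by simpa using hpb.w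
    have h1 : (E.ι ≫ pr R' X) ≫ X.hom = b ≫ Spec.map (CommRingCat.ofHom (residue R)) := by
      rw [Category.assoc, (isPullback_pr (R' := R') X).w, ← Category.assoc, ← hb, Category.assoc, hw]
    rw [← Scheme.Hom.comp_apply, h1, Scheme.Hom.comp_apply]
    exact PrimeSpectrum.comap_residue R (b p)
  obtain ⟨e⟩ := nonempty_pullback_iso hp heff
  refine ⟨⟨E.k, E.ι ≫ pr R' X, heff, ?_⟩⟩
  rw [← E.deg]
  exact MinusPush.curveDeg_congr E.k _ e.symm

end K479.CompMinus
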