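import Mathlib.RingTheory.Ideal.Cotangent
import Mathlib.RingTheory.Localization.AtPrime.Basic

/-!
# The cotangent space of a localization at a maximal ideal
-/

set_option autoImplicit false

open IsLocalRing

namespace K479.CotLoc

variable {B A κ M : Type*} [CommRing B] [CommRing A] [IsLocalRing A] [Algebra B A] (p : Ideal B) [p.IsPrime]
  [IsLocalization.AtPrime A p] [Field κ] [AddCommGroup M] [Module κ M] [Module.Finite κ M]
  (ρ : B →+* κ) (hρ : Function.Surjective ρ) (hp : RingHom.ker ρ = p)
  (φ : p →+ M) (hφ : ∀ (b : B) (x : p), φ (b • x) = ρ b • φ x) (hs : Function.Surjective φ)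
  (hk : ∀ x : p, φ x = 0 → (x : B) ∈ p ^ 2)

include hρ hp hφ hs hk

theorem finrank_cotangentSpace :
    Module.finrank (ResidueField A) (CotangentSpace A) = Module.finrank κ M := by
  have hmax : maximalIdeal A = p.map (algebraMap B A) := (IsLocalization.AtPrime.map_eq_maximalIdeal p A).symm
  have hmem : ∀ x : p, algebraMap B A x ∈ maximalIdeal A := fun x => by
    rw [hmax]; exact Ideal.mem_map_of_mem _ x.2
  let ψ : p →+ CotangentSpace A := (maximalIdeal A).toCotangent.toAddMonoidHom.comp
    (AddMonoidHom.mk' (fun x => (⟨algebraMap B A x, hmem x⟩ : maximalIdeal A)) (fun x y => by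
      apply Subtype.ext
      exact map_add (algebraMap B A) _ _))
  have hψ : ∀ (b : B) (x : p), ψ (b • x) = residue A (algebraMap B A b) • ψ x := by
    intro b x
    have h1 : ψ (b • x) = (maximalIdeal A).toCotangent (algebraMap B A b • ⟨algebraMap B A x, hmem x⟩) := by
      change (maximalIdeal A).toCotangent ⟨algebraMap B A (b * x), _⟩ = _
      congr 1
      apply Subtype.ext
      exact map_mul (algebraMap B A) _ _
    rw [h1, map_smul]
    exact (algebraMap_smul (ResidueField A) (algebraMap B A b) _).symm
  have hψ0 : ∀ x : p, (x : B) ∈ p ^ 2 → ψ x = 0 := by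
    intro x hx
    refine ((maximalIdeal A).toCotangent_eq_zero _).2 ?_
    change algebraMap B A x ∈ maximalIdeal A ^ 2
    rw [hmax, ← Ideal.map_pow]
    exact Ideal.mem_map_of_mem _ hx
  have hφ0 : ∀ x : p, (x : B) ∈ p ^ 2 → φ x = 0 := by
    intro x hx
    have h1 : ∀ y ∈ p * p, ∃ h : y ∈ p, φ ⟨y, h⟩ = 0 := by
      intro y hy
      refine Submodule.mul_induction_on hy ?_ ?_
      · intro m hm n hn
        refine ⟨p.mul_mem_left m hn, ?_⟩
        have h2 := hφ m ⟨n, hn⟩
        have h3 : ρ m = 0 := by
          rw [← RingHom.mem_ker, hp]; exact hm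
        rw [h3, zero_smul] at h2
        exact h2
      · rintro y z ⟨h2, h3⟩ ⟨h4, h5⟩
        refine ⟨p.add_mem h2 h4, ?_⟩
        have h6 := φ.map_add ⟨y, h2⟩ ⟨z, h4⟩
        rw [h3, h5, add_zero] at h6
        exact h6
    obtain ⟨h, h'⟩ := h1 x (by rw [← pow_two]; exact hx)
    exact h'
  have hker : ∀ b : B, residue A (algebraMap B A b) = 0 ↔ b ∈ p := by
    intro b
    rw [residue_eq_zero_iff]
    exact IsLocalization.AtPrime.to_map_mem_maximal_iff A p b
  have hne : ∀ s : p.primeCompl, residue A (algebraMap B A s) ≠ 0 := fun s h => s.2 ((hker _).1 h)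
  have hρ0 : ∀ b : B, ρ b = 0 ↔ b ∈ p := fun b => by rw [← RingHom.mem_ker, hp]
  have hsurj : Function.Surjective fun b : B => residue A (algebraMap B A b) := by
    intro r
    obtain ⟨a, rfl⟩ := residue_surjective r
    obtain ⟨⟨b, s⟩, h⟩ := IsLocalization.surj p.primeCompl a
    obtain ⟨b', hb'⟩ := hρ (ρ b / ρ s)
    have hs0 : ρ s ≠ 0 := fun h => s.2 ((hρ0 _).1 h)
    have h1 : b' * s - b ∈ p := by
      rw [← hρ0, map_sub, map_mul, hb', div_mul_cancel₀ _ hs0, sub_self]
    rw [← hker, map_sub, map_mul, map_sub, map_mul, sub_eq_zero] at h1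
    have h2 := congrArg (residue A) h
    rw [map_mul] at h2
    exact ⟨b', mul_right_cancel₀ (hne s) (h1.trans h2.symm)⟩
  let b := Module.finBasis κ M
  choose x hx using fun i => hs (b i)
  have hli : LinearIndependent (ResidueField A) fun i => ψ (x i) := by
    rw [Fintype.linearIndependent_iff]
    intro g hg i
    choose β hβ using fun i => hsurj (g i)
    simp only at hβ
    have h1 : ψ (∑ i, β i • x i) = 0 := by
      rw [map_sum, ← hg]
      refine Finset.sum_congr rfl fun i _ => ?_
      rw [hψ, hβ]
    have h2 : algebraMap B A ((∑ i, β i • x i : p) : B) ∈ (p ^ 2).map (algebraMap B A) := by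
      rw [Ideal.map_pow, ← hmax]
      exact ((maximalIdeal A).toCotangent_eq_zero _).1 h1
    rw [IsLocalization.algebraMap_mem_map_algebraMap_iff p.primeCompl] at h2
    obtain ⟨t, ht, h3⟩ := h2
    have h4 : φ (t • ∑ i, β i • x i) = 0 := hφ0 _ h3
    have ht0 : ρ t ≠ 0 := fun h => ht ((hρ0 _).1 h)
    rw [hφ, smul_eq_zero_iff_right ht0, map_sum] at h4
    have h5 : ∑ i, ρ (β i) • b i = 0 := by
      rw [← h4]
      refine Finset.sum_congr rfl fun i _ => ?_
      rw [hφ, hx]
    have h6 := Fintype.linearIndependent_iff.1 b.linearIndependent _ h5 i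
    rw [← hβ i, hker, ← hρ0, h6]
  have hsp : ⊤ ≤ Submodule.span (ResidueField A) (Set.range fun i => ψ (x i)) := by
    rintro c -
    obtain ⟨z, rfl⟩ := (maximalIdeal A).toCotangent_surjective c
    have hz : (z : A) ∈ p.map (algebraMap B A) := hmax.le z.2
    rw [IsLocalization.mem_map_algebraMap_iff p.primeCompl] at hz
    obtain ⟨⟨z0, s⟩, h⟩ := hz
    have h1 : residue A (algebraMap B A s) • (maximalIdeal A).toCotangent z = ψ z0 := by
      have h2 : algebraMap B A s • z = ⟨algebraMap B A z0, hmem z0⟩ := by
        apply Subtype.ext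
        exact (mul_comm _ _).trans h
      change _ = (maximalIdeal A).toCotangent ⟨algebraMap B A z0, hmem z0⟩
      rw [← h2, map_smul]
      exact algebraMap_smul (ResidueField A) (algebraMap B A s) _
    choose β hβ using fun i => hρ (b.repr (φ z0) i)
    have h2 : φ (z0 - ∑ i, β i • x i) = 0 := by
      rw [map_sub, map_sum, sub_eq_zero]
      conv_lhs => rw [← b.sum_repr (φ z0)]
      refine Finset.sum_congr rfl fun i _ => ?_
      rw [hφ, hβ, hx]
    have h3 := hψ0 _ (hk _ h2)
    rw [map_sub, map_sum, sub_eq_zero] at h3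
    have h4 : ψ z0 ∈ Submodule.span (ResidueField A) (Set.range fun i => ψ (x i)) := by
      rw [h3]
      refine Submodule.sum_mem _ fun i _ => ?_
      rw [hψ]
      exact Submodule.smul_mem _ _ (Submodule.subset_span ⟨i, rfl⟩)
    rw [← h1] at h4
    have h5 := Submodule.smul_mem _ (residue A (algebraMap B A s))⁻¹ h4
    rwa [smul_smul, inv_mul_cancel₀ (hne s), one_smul] at h5
  rw [Module.finrank_eq_card_basis (Module.Basis.mk hli hsp), Fintype.card_fin]

omit hρ hp hφ hs hk in
/-- Isomorphic local rings have cotangent spaces of the same dimension. -/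
theorem finrank_eq_of_ringEquiv {A B : Type*} [CommRing A] [CommRing B] [IsLocalRing A] [IsLocalRing B]
    [Module.Finite (ResidueField B) (CotangentSpace B)] (e : B ≃+* A) :
    Module.finrank (ResidueField A) (CotangentSpace A) = Module.finrank (ResidueField B) (CotangentSpace B) := by
  let _ : Algebra B A := e.toRingHom.toAlgebra
  have hloc : IsLocalization.AtPrime A (maximalIdeal B) := by
    have h1 : IsLocalization (maximalIdeal B).primeCompl B := IsLocalization.self (by
      intro b hb
      by_contra h
      exact hb ((mem_maximalIdeal b).2 h))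
    exact IsLocalization.isLocalization_of_algEquiv (maximalIdeal B).primeCompl
      (AlgEquiv.ofBijective (Algebra.ofId B A) e.bijective)
  refine finrank_cotangentSpace (maximalIdeal B) (residue B) residue_surjective ker_residue
    (maximalIdeal B).toCotangent.toAddMonoidHom ?_ ?_ ?_
  · intro b x
    change (maximalIdeal B).toCotangent (b • x) = _
    rw [map_smul]
    exact (algebraMap_smul (ResidueField B) b _).symm
  · exact (maximalIdeal B).toCotangent_surjective
  · intro x hx
    exact ((maximalIdeal B).toCotangent_eq_zero x).1 hx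

end K479.CotLoc
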