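import Groth.Agent.ArSurf.K479.Kosz
import Groth.Agent.ArSurf.K479.CotLoc
import Groth.Agent.Dix.CastLift
import Groth.Agent.Dix.ContractReg
import Groth.Agent.CurvesB.HZero
import Groth.Agent.CurvesA.HHMap
import Groth.Agent.S0843
import Groth.Agent.S0024

/-!
# The cotangent space of the contraction of a projective line with conormal sheaf `O(d)`
-/

set_option autoImplicit false
set_option backward.isDefEq.respectTransparency false
universe u

open CategoryTheory CategoryTheory.Limits AlgebraicGeometry TopologicalSpace Opposite IsLocalRing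

namespace K479.CotGeom

open Groth.Agent Groth.Agent.Fdesc.LocGen Groth.Agent.Fdesc Groth.Agent.Ega2 Groth.Agent.CohqB.AmpleH1
open Groth.Agent.Dix Groth.Agent.Dix.Cast4 Groth.Agent.Dix.Cast1 Groth.Agent.Dix.CastPic Groth.Agent.Dix.CastLocal
open Groth.Agent.PerfA.IdealModule Groth.Agent.Ega1.IdealGen Groth.Agent.Grpsch.PicGrp Groth.Agent.CurvesB

/-- The sections of an invertible module which vanish on a closed subscheme. -/
theorem exists_ev {X E : Scheme.{u}} (ι : E ⟶ X) [IsClosedImmersion ι] {N : X.Modules}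
    (hN : PicF.IsInvertible N) (t : Γ(N, ⊤)) (ht : pullTop ι t = 0) :
    ∃ g : Γ(CohB1.tensorMod (ClSub.idealMod ι.ker) N, ⊤), (ev (ClSub.idealModι ι.ker) N).app ⊤ g = t := by
  have h := restrictSeq_shortExact ι hN
  have hm := h.mono_f
  exact ((Groth.Agent.CohqB.FiniteType2.sections_exact (restrictSeq ι N) h.exact (hm := hm) ⊤) t).1 ht

/-- The constants are the functions on the projective line. -/
theorem bijective_gl (k : Type u) [Field k] :
    Function.Bijective (HZero.gl k (CohB1.ProjSpace 1 k)) := by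
  have h1 := Groth.Agent.S0024.result 1 k
  have h2 : Function.Bijective (CohB1.ProjSpace.toSpec 1 k).appTop.hom :=
    (ConcreteCategory.isIso_iff_bijective _).1 h1
  have h3 : Function.Bijective (Scheme.ΓSpecIso (CommRingCat.of k)).inv.hom :=
    (ConcreteCategory.isIso_iff_bijective (Scheme.ΓSpecIso (CommRingCat.of k)).inv).1 inferInstance
  exact h2.comp h3

/-- Functions on a closed subscheme lift if `H^1(I) = 0`. -/
theorem surjective_appTop {W E : Scheme.{u}} (ι : E ⟶ W) [IsClosedImmersion ι]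
    (heff : BlowUp.IsEffCartierIdeal ι.ker) (h1 : V1 (idc ι heff)) :
    Function.Surjective ι.appTop.hom := by
  intro c
  have hO : PicF.IsInvertible (Coh.structureModule W) := isInvertible_structureModule
  have h2 : V1 (idc ι heff * mk (Coh.structureModule W) hO) := by
    have h3 : mk (Coh.structureModule W) hO = 1 := rfl
    rw [h3, mul_one]
    exact h1
  rw [idc, mk_mul_mk, V1_mk] at h2
  obtain ⟨t, ht⟩ := wp1_lift ι (Coh.structureModule W) hO h2 (c • pullTop ι (one ⊤))
  obtain ⟨a, rfl⟩ := (ofFun (X := W) (U := ⊤)).surjective t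
  rw [ofFun_eq_smul, pullTop_smul] at ht
  exact ⟨a, (IsGen.pullTop ι (isGen_one (X := W) ⊤)).ext ht⟩

/-- The dimension of the sections of a module of class `O(d)`. -/
theorem finrank_HH_o {k : Type u} [Field k] {N : (CohB1.ProjSpace 1 k).Modules} (hN : PicF.IsInvertible N) (d : ℕ)
    (h : mk N hN = o k d) :
    Module.finrank k (Coh.HH (CohB1.ProjSpace 1 k) N 0) = d + 1 := by
  rw [o, mk_eq_iff] at h
  obtain ⟨e⟩ := h
  have h3 : Module.finrank k (Coh.HH (CohB1.ProjSpace 1 k) N 0) =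
      Module.finrank k (Coh.HH (CohB1.ProjSpace 1 k) (Twist.twistProjSpace 1 k d) 0) :=
    LinearEquiv.finrank_eq (CurvesA.HHMap.equivOver (X := CohB1.ProjSpace 1 k) k e 0)
  rw [h3]
  obtain ⟨e'⟩ := Groth.Agent.S0843.result k 1 d
  rw [e'.finrank_eq, Cast2.finrank_homogeneous_two]

theorem cot_top {k : Type u} [Field k] {W Y : Scheme.{u}} [IsAffine Y] [IsIntegral Y]
    (f : W ⟶ Y) [IsIso f.appTop]
    (ι : CohB1.ProjSpace 1 k ⟶ W) [IsClosedImmersion ι] (heff : BlowUp.IsEffCartierIdeal ι.ker)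
    (h0 : V1 (1 : Pic W)) (h1 : V1 (idc ι heff)) (h2 : V1 (idc ι heff * idc ι heff)) (d : ℕ)
    (hI : pull ι (idc ι heff) = o k d)
    (u v : Γ(ClSub.idealMod ι.ker, ⊤))
    (hgen : CohB1.genLocus _ (homOf u) ⊔ CohB1.genLocus _ (homOf v) = ⊤)
    (e : CohB1.ProjSpace 1 k) (y : Y) (hey : f (ι e) = y) :
    Module.finrank (ResidueField (Y.presheaf.stalk y)) (CotangentSpace (Y.presheaf.stalk y)) = d + 1 := by
  have hinv := (Groth.Agent.Dix.IdealModCartier.isInvertible_idealMod_iff ι.ker).2 heff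
  have hE := Cast2.wp2_isField k
  have hY₀ := isAffineOpen_top Y
  have hγ := bijective_gl k
  let γ : k ≃+* Γ(CohB1.ProjSpace 1 k, ⊤) := RingEquiv.ofBijective _ hγ
  let α : Γ(Y, ⊤) ≃+* Γ(W, ⊤) := (asIso f.appTop).commRingCatIsoToRingEquiv
  let ρ : Γ(Y, ⊤) →+* k := (γ.symm.toRingHom.comp ι.appTop.hom).comp α.toRingHom
  have hργ : ∀ b, γ (ρ b) = ι.appTop.hom (α b) := fun b => γ.apply_symm_apply _
  have hρ : Function.Surjective ρ :=
    (γ.symm.surjective.comp (surjective_appTop ι heff h1)).comp α.surjective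
  have hp : RingHom.ker ρ = (hY₀.primeIdealOf ⟨y, trivial⟩).asIdeal := by
    ext b
    rw [ContractReg.mem_primeIdealOf_iff hY₀ (ι ≫ f) hE le_rfl e y trivial hey b, RingHom.mem_ker]
    have h3 : ((ι ≫ f).appLE ⊤ ⊤ le_rfl).hom b = γ (ρ b) := by
      rw [hργ]
      change _ = (f.appTop ≫ ι.appTop).hom b
      rw [← Scheme.Hom.comp_appTop]
      have : (ι ≫ f).appLE ⊤ ⊤ le_rfl = (ι ≫ f).appTop := (Scheme.Hom.app_eq_appLE (ι ≫ f)).symm
      rw [this]
    rw [h3, map_eq_zero_iff γ γ.injective]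
  let _ : Algebra Γ(Y, ⊤) (Y.presheaf.stalk y) := (Y.presheaf.germ ⊤ y trivial).hom.toAlgebra
  have hloc : IsLocalization.AtPrime (Y.presheaf.stalk y) (hY₀.primeIdealOf ⟨y, trivial⟩).asIdeal :=
    hY₀.isLocalization_stalk ⟨y, trivial⟩
  -- functions vanishing on `E` as sections of the ideal
  have hval : ∀ x : (hY₀.primeIdealOf ⟨y, trivial⟩).asIdeal, ∃ t : Γ(ClSub.idealMod ι.ker, ⊤),
      val ι.ker t = α x := by
    intro x
    apply exists_val
    have h3 : ρ x = 0 := by
      rw [← RingHom.mem_ker, hp]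
      exact x.2
    rw [← hργ, h3, map_zero]
  choose τ hτ using hval
  have hτadd : ∀ x x', τ (x + x') = τ x + τ x' := by
    intro x x'
    apply val_injective
    rw [Kosz.val_add, hτ, hτ, hτ]
    exact map_add α _ _
  have hτsmul : ∀ (b : Γ(Y, ⊤)) x, τ (b • x) = α b • τ x := by
    intro b x
    apply val_injective
    rw [val_smul, hτ, hτ]
    exact map_mul α _ _
  have hmem : ∀ t : Γ(ClSub.idealMod ι.ker, ⊤), α.symm (val ι.ker t) ∈ (hY₀.primeIdealOf ⟨y, trivial⟩).asIdeal := by
    intro t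
    rw [← hp, RingHom.mem_ker]
    apply γ.injective
    rw [hργ, α.apply_symm_apply, appTop_val, map_zero]
  have hadd : ∀ t t' : Γ(ClSub.idealMod ι.ker, ⊤), pullTop ι (t + t') = pullTop ι t + pullTop ι t' :=
    fun t t' => map_add (((Scheme.Modules.pullbackPushforwardAdjunction ι).unit.app _).app ⊤).hom t t'
  let φ : (hY₀.primeIdealOf ⟨y, trivial⟩).asIdeal →+
      Coh.HH (CohB1.ProjSpace 1 k) ((Scheme.Modules.pullback ι).obj (ClSub.idealMod ι.ker)) 0 :=
    AddMonoidHom.mk' (fun x => (HZero.equivAdd _).symm (pullTop ι (τ x))) (fun x x' => by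
      rw [hτadd, hadd, map_add])
  have hφ : ∀ x, HZero.equivAdd _ (φ x) = pullTop ι (τ x) := fun x => (HZero.equivAdd _).apply_symm_apply _
  have hfin : Module.finrank k (Coh.HH (CohB1.ProjSpace 1 k)
      ((Scheme.Modules.pullback ι).obj (ClSub.idealMod ι.ker)) 0) = d + 1 :=
    finrank_HH_o (isInvertible_pullback ι hinv) d (by rw [← pull_mk]; exact hI)
  have hfinite : Module.Finite k (Coh.HH (CohB1.ProjSpace 1 k)
      ((Scheme.Modules.pullback ι).obj (ClSub.idealMod ι.ker)) 0) :=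
    Module.finite_of_finrank_pos (by rw [hfin]; omega)
  rw [← hfin]
  refine CotLoc.finrank_cotangentSpace (hY₀.primeIdealOf ⟨y, trivial⟩).asIdeal ρ hρ hp φ ?_ ?_ ?_
  · intro b x
    apply (HZero.equivAdd _).injective
    rw [HZero.equivAdd_smul_over, hφ, hφ, hτsmul, pullTop_smul]
    congr 1
    exact (hργ b).symm
  · intro z
    obtain ⟨t, ht⟩ := CastLift.exists_lift ι heff (ClSub.idealMod ι.ker) hinv h2 (HZero.equivAdd _ z)
    refine ⟨⟨α.symm (val ι.ker t), hmem t⟩, ?_⟩
    apply (HZero.equivAdd _).injective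
    rw [hφ, ← ht]
    congr 1
    apply val_injective
    rw [hτ]
    exact α.apply_symm_apply _
  · intro x hx
    have h3 : pullTop ι (τ x) = 0 := by rw [← hφ, hx, map_zero]
    obtain ⟨g, hg⟩ := exists_ev ι hinv (τ x) h3
    have hH1 : Subsingleton (Coh.HH W (Coh.structureModule W) 1) := h0 _ isInvertible_structureModule rfl
    obtain ⟨a, b, hab⟩ := Kosz.koszul ι.ker hH1 u v hgen g
    rw [hg] at hab
    have h4 : α x = val ι.ker a * val ι.ker u + val ι.ker b * val ι.ker v := by
      rw [← hτ, hab, Kosz.val_add, val_smul, val_smul]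
    have h5 : (x : Γ(Y, ⊤)) = α.symm (val ι.ker a) * α.symm (val ι.ker u) +
        α.symm (val ι.ker b) * α.symm (val ι.ker v) := by
      rw [← map_mul, ← map_mul, ← map_add, ← h4, α.symm_apply_apply]
    rw [h5, pow_two]
    exact Ideal.add_mem _ (Ideal.mul_mem_mul (hmem a) (hmem u)) (Ideal.mul_mem_mul (hmem b) (hmem v))

end K479.CotGeom
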