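import Groth.Agent.ArSurf.K479.Artin
import Groth.Agent.ArSurf.K480.HorDiv
import Groth.Agent.ArSurf.K480.SurfDim
import Groth.Agent.Models.H55.CompGeom
import Groth.Agent.Models.H38.TrivGen
import Groth.Agent.Ega1.AmpFamNoeth
import Groth.Agent.VarietyB.GenLocusTensor
import Groth.Agent.S7913

/-!
# Contractions over Henselian discrete valuation rings
-/

set_option autoImplicit false
universe u
open AlgebraicGeometry CategoryTheory CategoryTheory.Limits IsLocalRing TopologicalSpace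

namespace K479.HensContr

open Groth.Agent Groth.Agent.Dix Groth.Agent.Dix.FibreMin Groth.Agent.Grpsch.PicGrp Groth.Agent.Fdesc
open Groth.Agent.Dix.IdealModCartier Groth.Agent.Fdesc.LocGen

variable {R : Type u} [CommRing R] [IsDomain R] [IsDiscreteValuationRing R]
variable {X : Over (Spec (CommRingCat.of R))}

/-- The generic point of a vertical curve of a surface is a generic point of the closed fibre. -/
theorem isMinPt [IsIntegral X.left] [IsProper X.hom] [Flat X.hom] (hdim : topologicalKrullDim X.left ≤ 2)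
    (E : ArSurf.VertComp R X) :
    IsMinPt X.hom (E.ι (genericPoint E.curve.left)) := by
  intro z hz hpz
  by_contra hne
  rw [Contr.hom_vertComp] at hpz
  obtain ⟨w, hw, hw'⟩ := Contr.exists_ne_vertComp E (genericPoint E.curve.left)
  have hw2 : genericPoint E.curve.left ⤳ w := _root_.genericPoint_specializes w
  have h1 := Contr.eq_of_pair hdim hz hne hpz (E.ι w) (hw2.map E.ι.continuous)
  exact hw (E.ι.isClosedEmbedding.injective h1)

/-- A vertical curve not contained in a proper closed subset has a closed point outside of it. -/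
theorem exists_closed_notMem [IsProper X.hom] (E : ArSurf.VertComp R X) (U : X.left.Opens)
    (hU : E.ι (genericPoint E.curve.left) ∈ U) :
    ∃ x : X.left, IsClosed ({x} : Set X.left) ∧ x ∈ Set.range E.ι ∧ x ∈ U := by
  have hcl : IsClosedImmersion (Spec.map (CommRingCat.ofHom (IsLocalRing.residue R))) :=
    IsClosedImmersion.spec_of_surjective _ IsLocalRing.residue_surjective
  have h1 : IsProper (E.curve.hom ≫ Spec.map (CommRingCat.ofHom (IsLocalRing.residue R))) := by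
    rw [← E.w]
    infer_instance
  have h2 : IsProper E.curve.hom := IsProper.of_comp _ (Spec.map (CommRingCat.ofHom (IsLocalRing.residue R)))
  have h3 : JacobsonSpace E.curve.left := LocallyOfFiniteType.jacobsonSpace E.curve.hom
  obtain ⟨y, hy, hyc⟩ := nonempty_inter_closedPoints (Z := ((E.ι ⁻¹ᵁ U : E.curve.left.Opens) : Set E.curve.left))
    ⟨genericPoint E.curve.left, hU⟩ (E.ι ⁻¹ᵁ U).isOpen.isLocallyClosed
  refine ⟨E.ι y, ?_, ⟨y, rfl⟩, hy⟩
  rw [← Set.image_singleton]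
  exact E.ι.isClosedEmbedding.isClosedMap _ hyc

/-- The complement of finitely many vertical curves. -/
theorem isClosed_iUnion {r : ℕ} (Γ : Fin r → ArSurf.VertComp R X) :
    IsClosed (⋃ i, Set.range ((Γ i).ι.base : (Γ i).curve.left → X.left)) :=
  isClosed_iUnion_of_finite fun i => (Γ i).ι.isClosedEmbedding.isClosed_range

section

variable [IsIntegral X.left] [IsProper X.hom] [Flat X.hom]

omit [IsDiscreteValuationRing R] in
/-- The function field of the generic fibre: global functions on the generic fibre form a field. -/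
theorem isField_genericFibre : IsField Γ(((Neron.genericFibre R).obj X).left, ⊤) := by
  have h1 := GenDim.isIntegral_genericFibre X
  have hp : IsProper (pullback.snd X.hom (Neron.genPt R)) := inferInstance
  exact isField_of_universallyClosed (FractionRing R) (pullback.snd X.hom (Neron.genPt R))

theorem exists_divisor [HenselianLocalRing R] (hdim : topologicalKrullDim X.left = 2)
    {r : ℕ} (Γ : Fin r → ArSurf.VertComp R X) (E : ArSurf.VertComp R X)
    (hE : ∀ i, Set.range (E.ι.base : E.curve.left → X.left) ≠ Set.range (Γ i).ι.base) :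
    ∃ 𝓘 : X.left.IdealSheafData, BlowUp.IsEffCartierIdeal 𝓘 ∧
      (∀ x ∈ 𝓘.support, X.hom x = closedPoint R → IsClosed ({x} : Set X.left)) ∧
      (∀ x ∈ 𝓘.support, x ∉ ⋃ i, Set.range (Γ i).ι) ∧
      (∃ x ∈ 𝓘.support, x ∈ Set.range E.ι) ∧
      (∀ x ∈ 𝓘.support, ∃ z ∈ 𝓘.support, z ⤳ x ∧ X.hom z ≠ closedPoint R) := by
  have hU : E.ι (genericPoint E.curve.left) ∈
      (⟨(⋃ i, Set.range ((Γ i).ι.base : (Γ i).curve.left → X.left))ᶜ, (isClosed_iUnion Γ).isOpen_compl⟩ :
        X.left.Opens) := by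
    intro h
    obtain ⟨i, hi⟩ := Set.mem_iUnion.1 h
    exact Artin.notMem_support E (Γ i) (hE i) ((VertGeom.mem_support_ker_iff (Γ i).ι _).2 hi)
  obtain ⟨x, hx, hxE, hxU⟩ := exists_closed_notMem E _ hU
  have hxs : X.hom x = closedPoint R := by
    obtain ⟨e, rfl⟩ := hxE
    exact Contr.hom_vertComp E e
  obtain ⟨𝓘, h1, h2, h3, ζ, hζ, hζ'⟩ := K480.HorDiv.exists_divisor R X hdim hx hxs
  refine ⟨𝓘, h1, ?_, ?_, ⟨x, h2, hxE⟩, ?_⟩
  · intro y hy hys
    rcases (h3 y hy).2 with h | h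
    · rw [h]; exact hx
    · exact absurd hys h
  · intro y hy hyΓ
    rcases (h3 y hy).2 with h | h
    · exact hxU (h ▸ hyΓ)
    · obtain ⟨i, e, rfl⟩ := Set.mem_iUnion.1 hyΓ
      exact h (Contr.hom_vertComp (Γ i) e)
  · intro y hy
    rcases (h3 y hy).2 with h | h
    · exact ⟨ζ, hζ, h ▸ (h3 ζ hζ).1, hζ'⟩
    · exact ⟨y, hy, specializes_refl y, h⟩

/-- An effective Cartier divisor which meets every vertical curve different from the given ones. -/
theorem exists_divisor' [HenselianLocalRing R] (hdim : topologicalKrullDim X.left = 2)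
    {r : ℕ} (Γ : Fin r → ArSurf.VertComp R X) :
    ∃ 𝓘 : X.left.IdealSheafData, BlowUp.IsEffCartierIdeal 𝓘 ∧
      (∀ x ∈ 𝓘.support, X.hom x = closedPoint R → IsClosed ({x} : Set X.left)) ∧
      (∀ x ∈ 𝓘.support, x ∉ ⋃ i, Set.range (Γ i).ι) ∧
      (∀ E : ArSurf.VertComp R X, (∀ i, Set.range (E.ι.base : E.curve.left → X.left) ≠ Set.range (Γ i).ι.base) →
        ∃ x ∈ 𝓘.support, x ∈ Set.range E.ι) ∧
      (∀ x ∈ 𝓘.support, ∃ z ∈ 𝓘.support, z ⤳ x ∧ X.hom z ≠ closedPoint R) := by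
  classical
  let T : Set X.left := {ξ | (X.hom ξ ∈ ({closedPoint R} : Set (Spec (CommRingCat.of R))) ∧ IsMinPt X.hom ξ) ∧
    ∃ E : ArSurf.VertComp R X, E.ι (genericPoint E.curve.left) = ξ ∧
      ∀ i, Set.range (E.ι.base : E.curve.left → X.left) ≠ Set.range (Γ i).ι.base}
  have hT : T.Finite := (finite_isMinPt X.hom {closedPoint R} (Set.finite_singleton _)).subset fun ξ h => h.1
  have h1 : ∀ ξ : X.left, ∃ 𝓘 : X.left.IdealSheafData, ξ ∈ T → BlowUp.IsEffCartierIdeal 𝓘 ∧
      (∀ x ∈ 𝓘.support, X.hom x = closedPoint R → IsClosed ({x} : Set X.left)) ∧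
      (∀ x ∈ 𝓘.support, x ∉ ⋃ i, Set.range (Γ i).ι) ∧
      (∃ x ∈ 𝓘.support, ξ ⤳ x) ∧
      (∀ x ∈ 𝓘.support, ∃ z ∈ 𝓘.support, z ⤳ x ∧ X.hom z ≠ closedPoint R) := by
    intro ξ
    by_cases hξ : ξ ∈ T
    · obtain ⟨-, E, hE, hE'⟩ := hξ
      obtain ⟨𝓘, h1, h2, h3, ⟨x, hx, e, he⟩, h4⟩ := exists_divisor hdim Γ E hE'
      refine ⟨𝓘, fun _ => ⟨h1, h2, h3, ⟨x, hx, ?_⟩, h4⟩⟩
      rw [← hE, ← he]
      exact (_root_.genericPoint_specializes e).map E.ι.continuous
    · exact ⟨⊤, fun h => absurd h hξ⟩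
  choose P hP using h1
  have hsup : ∀ x, x ∈ (∏ ξ ∈ hT.toFinset, P ξ).support ↔ ∃ ξ ∈ T, x ∈ (P ξ).support := by
    intro x
    rw [Ega1.AmpFamNoeth.mem_support_prod]
    simp
  refine ⟨∏ ξ ∈ hT.toFinset, P ξ, ?_, ?_, ?_, ?_, ?_⟩
  · exact Models.H38.TrivGen.isEff_prod _ _ fun ξ hξ => (hP ξ (hT.mem_toFinset.1 hξ)).1
  · intro x hx
    obtain ⟨ξ, hξ, hx'⟩ := (hsup x).1 hx
    exact (hP ξ hξ).2.1 x hx'
  · intro x hx
    obtain ⟨ξ, hξ, hx'⟩ := (hsup x).1 hx
    exact (hP ξ hξ).2.2.1 x hx'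
  · intro E hE
    have hξ : E.ι (genericPoint E.curve.left) ∈ T :=
      ⟨⟨Contr.hom_vertComp E _, isMinPt hdim.le E⟩, E, rfl, hE⟩
    obtain ⟨x, hx, hx'⟩ := (hP _ hξ).2.2.2.1
    refine ⟨x, (hsup x).2 ⟨_, hξ, hx⟩, ?_⟩
    exact hx'.mem_closed E.ι.isClosedEmbedding.isClosed_range ⟨_, rfl⟩
  · intro x hx
    obtain ⟨ξ, hξ, hx'⟩ := (hsup x).1 hx
    obtain ⟨z, hz, hzx, hz'⟩ := (hP ξ hξ).2.2.2.2 x hx'
    exact ⟨z, (hsup z).2 ⟨ξ, hξ, hz⟩, hzx, hz'⟩

/-- **Contraction** of a proper subset of the components of the closed fibre, over a Henselian discrete valuation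
ring. -/
theorem contraction [HenselianLocalRing R] (hnor : ∀ x : X.left, IsIntegrallyClosed (X.left.presheaf.stalk x))
    (hproj : Neron.IsProjectiveOver R X) (hdim : topologicalKrullDim X.left = 2)
    {r : ℕ} (Γ : Fin r → ArSurf.VertComp R X) (Γ' : ArSurf.VertComp R X)
    (hΓ' : ∀ i, Set.range (Γ'.ι.base : Γ'.curve.left → X.left) ≠ Set.range (Γ i).ι.base) :
    ∃ (Y : Over (Spec (CommRingCat.of R))) (f : X ⟶ Y),
      IsIntegral Y.left ∧ (∀ q : Y.left, IsIntegrallyClosed (Y.left.presheaf.stalk q)) ∧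
      topologicalKrullDim Y.left = 2 ∧ Flat Y.hom ∧ Neron.IsProjectiveOver R Y ∧
      IsProper f.left ∧ Surjective f.left ∧ (∀ U : Y.left.Opens, IsIso (f.left.app U)) ∧
      (∀ i, ∃ y : Y.left, Set.range (((Γ i).ι ≫ f.left).base : (Γ i).curve.left → Y.left) = {y}) ∧
      f.left.base ⁻¹' (f.left.base '' ⋃ i, Set.range (Γ i).ι.base) = ⋃ i, Set.range (Γ i).ι.base ∧
      ∀ V : Y.left.Opens, (V : Set Y.left) ∩ f.left.base '' (⋃ i, Set.range (Γ i).ι.base) = ∅ →
        IsIso (f.left ∣_ V) := by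
  have hN : IsLocallyNoetherian X.left := LocallyOfFiniteType.isLocallyNoetherian X.hom
  obtain ⟨𝓘, hI, h1, h2, h3, h4⟩ := exists_divisor' hdim Γ
  have hker : 𝓘.subschemeι.ker = 𝓘 := Scheme.IdealSheafData.ker_subschemeι _
  have hran : ∀ y, y ∈ Set.range 𝓘.subschemeι ↔ y ∈ 𝓘.support := by
    intro y
    rw [Scheme.IdealSheafData.range_subschemeι]
    rfl
  have hI' : BlowUp.IsEffCartierIdeal 𝓘.subschemeι.ker := by rw [hker]; exact hI
  have hInv := isInvertible_idealMod hI'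
  have hdual := isInvertible_dual hInv
  have hL : ClSub.IsInverseOf (dual (ClSub.idealMod 𝓘.subschemeι.ker)) (ClSub.idealMod 𝓘.subschemeι.ker) := by
    rw [ClSub.IsInverseOf, ← mk_eq_one_iff (isInvertible_tensorMod hdual hInv), ← mk_mul_mk hdual hInv,
      ← inv_mk hInv, inv_mul_cancel]
  obtain ⟨m₀, hm₀, hm⟩ := S7913.result (IsDiscreteValuationRing.not_isField R) X hdim hproj 𝓘.subscheme
    𝓘.subschemeι hI' (by
      intro p
      obtain ⟨z, hz, hzp, hz'⟩ := h4 _ ((hran _).1 ⟨p, rfl⟩)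
      obtain ⟨q, hq⟩ := (hran z).2 hz
      refine ⟨q, ?_, ?_⟩
      · apply 𝓘.subschemeι.isEmbedding.isInducing.specializes_iff.1
        rw [hq]; exact hzp
      · rcases Contr.asIdeal_eq_bot_or ((𝓘.subschemeι ≫ X.hom) q) with h | h
        · exact h
        · exfalso
          rw [Scheme.Hom.comp_apply, hq] at h
          exact hz' h) _ hL
  have hgg := hm m₀ le_rfl
  set M := CohB1.tensorPow (dual (ClSub.idealMod 𝓘.subschemeι.ker)) m₀ with hM
  have hMi : PicF.IsInvertible M := isInvertible_tensorPow hdual m₀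
  obtain ⟨s₀, hs₀⟩ := Cast5.exists_section 𝓘.subschemeι hI'
  obtain ⟨s, hs⟩ : ∃ s : Coh.structureModule X.left ⟶ M, ∀ x, x ∈ CohB1.genLocus M s ↔ x ∉ 𝓘.support := by
    refine ⟨powHom s₀ m₀, fun x => ?_⟩
    obtain ⟨n, rfl⟩ : ∃ n, m₀ = n + 1 := ⟨m₀ - 1, by omega⟩
    rw [genLocus_powHom hdual, ← hran]
    change x ∈ (CohB1.genLocus _ s₀ : Set X.left) ↔ _
    rw [hs₀]
    rfl
  refine Contr.contraction hnor hdim Γ M ?_ ?_ ?_ ?_
  · exact VarietyB.GenLocusTensor.exists_mem_genLocus hMi hgg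
  · intro t
    by_contra hcon
    push Not at hcon
    have h5 : ∀ z, (X.hom (pullback.fst X.hom (Neron.genPt R) z)).asIdeal = ⊥ := by
      intro z
      have h1 : X.hom (pullback.fst X.hom (Neron.genPt R) z) =
          Neron.genPt R (pullback.snd X.hom (Neron.genPt R) z) := by
        rw [← Scheme.Hom.comp_apply, ← Scheme.Hom.comp_apply, pullback.condition]
      rw [h1]
      exact SecTriv.asIdeal_genPt _
    obtain ⟨e⟩ := SecTriv.nonempty_iso_of_range (pullback.fst X.hom (Neron.genPt R)) hMi t (by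
      rintro _ ⟨z, rfl⟩
      exact hcon _ (h5 z))
    obtain ⟨x, hx, -⟩ := h3 Γ' hΓ'
    obtain ⟨z, hz, -, hz'⟩ := h4 x hx
    obtain ⟨w, hw⟩ := GenFibre.exists_genι_eq X z ((Contr.asIdeal_eq_bot_or _).resolve_right hz')
    obtain ⟨g, hg⟩ := GenFibre.exists_genι_eq X _ (GenFibre.asIdeal_hom_genericPoint X)
    have h6 := SecTriv.range_subset_of_iso (pullback.fst X.hom (Neron.genPt R)) hMi s e
      (isField_genericFibre (X := X)) g (by
        change GenFibre.genι X g ∈ _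
        rw [hg, hs]
        intro h
        obtain ⟨q, hq⟩ := (hran _).2 h
        exact K480.FinHor.ne_genericPoint X 𝓘.subscheme 𝓘.subschemeι hI' q hq)
    have h7 : z ∈ CohB1.genLocus M s := h6 ⟨w, hw⟩
    exact (hs z).1 h7 hz
  · intro i
    refine ⟨s, ?_⟩
    rintro _ ⟨e, rfl⟩
    refine (hs _).2 fun h => h2 _ h (Set.mem_iUnion.2 ⟨i, e, rfl⟩)
  · intro E t ht
    by_contra hcon
    push Not at hcon
    obtain ⟨e⟩ := SecTriv.nonempty_iso_of_range E.ι hMi t ht
    obtain ⟨x, hx, hxE⟩ := h3 E (fun i h => hcon i h)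
    have h6 : E.ι (genericPoint E.curve.left) ∈ CohB1.genLocus M s := by
      rw [hs]
      intro h
      obtain ⟨w, hw, -⟩ := Contr.exists_ne_vertComp E (genericPoint E.curve.left)
      have h7 := (h1 _ h (Contr.hom_vertComp E _))
      have h8 : E.ι (genericPoint E.curve.left) ⤳ E.ι w :=
        (_root_.genericPoint_specializes w).map E.ι.continuous
      have h9 : E.ι w ∈ ({E.ι (genericPoint E.curve.left)} : Set X.left) := h8.mem_closed h7 rfl
      exact hw (E.ι.isClosedEmbedding.injective h9)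
    have h5 := SecTriv.range_subset_of_iso E.ι hMi s e (Contr.isField_vertComp E) (genericPoint E.curve.left) h6
    exact (hs x).1 (h5 hxE) hx

end

end K479.HensContr
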