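import Groth.Agent.CalgA.DimFormula2
import Groth.Agent.S2653
import Groth.Agent.S0603
import Groth.Agent.Models.H54.HorAlg
import Mathlib.RingTheory.Jacobson.Ring
import Mathlib.RingTheory.AlgebraicIndependent.Transcendental

/-!
# Quasi-horizontal primes through a maximal ideal

`R` a Dedekind domain, `A` an `R`-algebra of finite type, `n` a maximal ideal of `A` over a maximal ideal of `R`
containing a prime `p₀` with `p₀ ∩ R = 0`: there is a prime `p ≤ n` with `p ∩ R = 0` and `A / p` algebraic over `R`.
-/

set_option autoImplicit false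
universe u

open IsLocalRing

namespace K479.HorPt

theorem isUniversallyCatenary (R : Type u) [CommRing R] [IsDedekindDomain R] :
    CAlg.IsUniversallyCatenary R := by
  have := Groth.Agent.S2653.isCohenMacaulayRing_of_isDedekindDomain R
  exact Groth.Agent.S0603.result R

/-- Height one case: a domain `B` of finite type over `R` and a maximal ideal `q` over a nonzero prime of `R`
such that every nonzero prime contained in `q` meets `R`: then `B` is algebraic over `R`. -/
theorem isAlgebraic_of_forall {R : Type u} [CommRing R] [IsDedekindDomain R] {B : Type u} [CommRing B]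
    [IsDomain B] [Algebra R B] [FaithfulSMul R B] [Algebra.FiniteType R B] (q : Ideal B) [hq : q.IsMaximal]
    (m : Ideal R) [hm : m.IsMaximal] (hm0 : m ≠ ⊥) [q.LiesOver m]
    (H : ∀ Q : Ideal B, Q.IsPrime → Q ≤ q → Q.comap (algebraMap R B) = ⊥ → Q = ⊥) :
    Algebra.IsAlgebraic R B := by
  obtain ⟨a, b, t, t', ha, hb, ht, ht', -, hform⟩ :=
    Groth.Agent.CalgA.DimFormula2.exists_dimension_formula (R := R) (S := B) m q
  have hform' := hform (isUniversallyCatenary R)
  have hm' : q.comap (algebraMap R B) = m := (Ideal.LiesOver.over (P := q) (p := m)).symm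
  have hNB : IsNoetherianRing B := Algebra.FiniteType.isNoetherianRing R B
  -- the height of `m` is one
  have hb1 : 1 ≤ b := by
    by_contra hcon
    have hb0 : b = 0 := by omega
    rw [hb0] at hb
    exact hm0 (Ideal.height_eq_zero_iff_eq_bot.1 hb)
  -- the residue extension is algebraic
  have ht0 : t' = 0 := by
    let _ : Field (B ⧸ q) := Ideal.Quotient.field q
    let _ : Field (R ⧸ m) := Ideal.Quotient.field m
    have hft : Algebra.FiniteType R (B ⧸ q) := inferInstance
    have hft' : Algebra.FiniteType (R ⧸ m) (B ⧸ q) := Algebra.FiniteType.of_restrictScalars_finiteType R _ _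
    have hfin : Module.Finite (R ⧸ m) (B ⧸ q) := finite_of_finite_type_of_isJacobsonRing _ _
    have h1 : Algebra.IsAlgebraic (R ⧸ m) (B ⧸ q) := inferInstance
    have h2 : Algebra.trdeg (R ⧸ m) (B ⧸ q) = 0 := trdeg_eq_zero_iff.2 h1
    rw [h2] at ht'
    exact_mod_cast ht'.symm
  have ha1 : a ≤ 1 := by
    by_contra hcon
    have ha2 : 2 ≤ a := by omega
    obtain ⟨π, hπm, hπ0⟩ := Submodule.exists_mem_ne_zero_of_ne_bot hm0
    have hdim : 2 ≤ ringKrullDim (Localization.AtPrime q) := by
      rw [IsLocalization.AtPrime.ringKrullDim_eq_height q, ha]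
      exact WithBot.coe_le_coe.2 (by exact_mod_cast ha2)
    have hπB : algebraMap R B π ≠ 0 := by
      rw [Ne, FaithfulSMul.algebraMap_eq_zero_iff]
      exact hπ0
    have hinj : Function.Injective (algebraMap B (Localization.AtPrime q)) :=
      IsLocalization.injective _ q.primeCompl_le_nonZeroDivisors
    obtain ⟨Q, hQ, hQ1, hQt⟩ := Groth.Agent.Models.H54.HorAlg.exists_prime_height_one hdim
      (algebraMap B (Localization.AtPrime q) (algebraMap R B π))
      (fun h => hπB (hinj (h.trans (map_zero _).symm)))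
    have hQne : Q ≠ ⊥ := Ideal.ne_bot_of_height_eq_one hQ1
    have hle : Q.comap (algebraMap B (Localization.AtPrime q)) ≤ q := by
      have h1 : Q ≤ maximalIdeal _ := IsLocalRing.le_maximalIdeal hQ.ne_top
      have h2 := Ideal.comap_mono (f := algebraMap B (Localization.AtPrime q)) h1
      exact h2.trans (Localization.AtPrime.under_maximalIdeal (I := q)).le
    have h3 := H (Q.comap (algebraMap B (Localization.AtPrime q))) (hQ.comap _) hle (by
      by_contra h4
      have h5 : ((Q.comap (algebraMap B (Localization.AtPrime q))).comap (algebraMap R B)).IsPrime :=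
        (hQ.comap _).comap _
      have h6 := h5.isMaximal h4
      have h7 : (Q.comap (algebraMap B (Localization.AtPrime q))).comap (algebraMap R B) ≤ m := by
        rw [← hm']; exact Ideal.comap_mono hle
      have h8 := h6.eq_of_le hm.ne_top h7
      rw [← h8] at hπm
      exact hQt hπm)
    apply hQne
    have h9 : Q.under B = ⊥ := h3
    rw [← IsLocalization.map_under q.primeCompl (Localization.AtPrime q) Q, h9, Ideal.map_bot]
  have ht1 : t = 0 := by omega
  rw [ht1, Nat.cast_zero, trdeg_eq_zero_iff] at ht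
  exact ht

/-- Quasi-horizontal primes through a maximal ideal. -/
theorem exists_prime {R : Type u} [CommRing R] [IsDedekindDomain R] (hR : ¬ IsField R)
    {A : Type u} [CommRing A] [Algebra R A] [Algebra.FiniteType R A] (n : Ideal A) [hn : n.IsMaximal]
    (hnm : (n.comap (algebraMap R A)).IsMaximal) (p₀ : Ideal A) (hp₀ : p₀.IsPrime)
    (hp₀' : p₀.comap (algebraMap R A) = ⊥) (h : p₀ ≤ n) :
    ∃ p : Ideal A, p.IsPrime ∧ p ≤ n ∧ p.comap (algebraMap R A) = ⊥ ∧ Algebra.IsAlgebraic R (A ⧸ p) := by
  have hNA : IsNoetherianRing A := Algebra.FiniteType.isNoetherianRing R A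
  obtain ⟨p, ⟨hp, hpn, hpR⟩, hmax⟩ := set_has_maximal_iff_noetherian.2 (inferInstanceAs (IsNoetherian A A))
    {p : Ideal A | p.IsPrime ∧ p ≤ n ∧ p.comap (algebraMap R A) = ⊥} ⟨p₀, hp₀, h, hp₀'⟩
  refine ⟨p, hp, hpn, hpR, ?_⟩
  have hinj : Function.Injective (algebraMap R (A ⧸ p)) := by
    rw [injective_iff_map_eq_zero]
    intro r hr
    have h1 : Ideal.Quotient.mk p (algebraMap R A r) = 0 := hr
    have h2 : r ∈ Ideal.comap (algebraMap R A) p := Ideal.mem_comap.2 (Ideal.Quotient.eq_zero_iff_mem.1 h1)
    rw [hpR] at h2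
    exact h2
  have hfs : FaithfulSMul R (A ⧸ p) := (faithfulSMul_iff_algebraMap_injective R _).2 hinj
  have hmkn : (n.map (Ideal.Quotient.mk p)).comap (Ideal.Quotient.mk p) = n := by
    rw [Ideal.comap_map_of_surjective _ Ideal.Quotient.mk_surjective, ← RingHom.ker_eq_comap_bot, Ideal.mk_ker]
    exact sup_eq_left.2 hpn
  have hqmax : (n.map (Ideal.Quotient.mk p)).IsMaximal := by
    rcases Ideal.map_eq_top_or_isMaximal_of_surjective (Ideal.Quotient.mk p) Ideal.Quotient.mk_surjective hn with h1 | h1
    · exfalso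
      rw [h1, Ideal.comap_top] at hmkn
      exact hn.ne_top hmkn.symm
    · exact h1
  have hover : (n.map (Ideal.Quotient.mk p)).LiesOver (n.comap (algebraMap R A)) := by
    constructor
    change n.comap (algebraMap R A) = (n.map (Ideal.Quotient.mk p)).comap (algebraMap R (A ⧸ p))
    rw [show algebraMap R (A ⧸ p) = (Ideal.Quotient.mk p).comp (algebraMap R A) from rfl,
      ← Ideal.comap_comap, hmkn]
  refine isAlgebraic_of_forall (n.map (Ideal.Quotient.mk p)) (n.comap (algebraMap R A))
    (Ring.ne_bot_of_isMaximal_of_not_isField hnm hR) ?_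
  intro Q hQ hQn hQR
  have h1 : p ≤ Q.comap (Ideal.Quotient.mk p) := by
    intro a ha
    rw [Ideal.mem_comap, Ideal.Quotient.eq_zero_iff_mem.2 ha]
    exact Submodule.zero_mem _
  have h2 : Q.comap (Ideal.Quotient.mk p) ≤ n := by
    rw [← hmkn]; exact Ideal.comap_mono hQn
  have h3 : (Q.comap (Ideal.Quotient.mk p)).comap (algebraMap R A) = ⊥ := by
    rw [Ideal.comap_comap]; exact hQR
  have h4 := hmax (Q.comap (Ideal.Quotient.mk p)) ⟨hQ.comap _, h2, h3⟩
  have h5 : p = Q.comap (Ideal.Quotient.mk p) := by
    by_contra hne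
    exact h4 (lt_of_le_of_ne h1 hne)
  rw [← Ideal.map_comap_of_surjective (Ideal.Quotient.mk p) Ideal.Quotient.mk_surjective Q, ← h5,
    Ideal.map_quotient_self]

end K479.HorPt
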