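import Groth.Agent.ArSurf.K479.HorPt
import Groth.Agent.Dix.SmoothFibrePrime

/-!
# Points with algebraic residue field in the generic fibre

`X` a scheme over `Spec R`, `R` a domain. A point `x` whose residue field is algebraic over `R` has no proper
specialization in the generic fibre.
-/

set_option autoImplicit false
universe u

open CategoryTheory CategoryTheory.Limits AlgebraicGeometry IsLocalRing Polynomial

namespace K479.HorPt

open Groth.Agent.Dix.SmoothFibrePrime Groth.Agent.Dix.ValCenter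

variable {R : CommRingCat.{u}} {X : Scheme.{u}} (f : X ⟶ Spec R)

/-- The homomorphism from the ring of the base to the functions on an affine open. -/
noncomputable def ringMap {U : X.Opens} (hU : IsAffineOpen U) : R ⟶ Γ(X, U) :=
  Spec.preimage (hU.fromSpec ≫ f)

theorem map_ringMap {U : X.Opens} (hU : IsAffineOpen U) : Spec.map (ringMap f hU) = hU.fromSpec ≫ f :=
  Spec.map_preimage _

theorem ringMap_germ {U : X.Opens} (hU : IsAffineOpen U) (x : X) (hx : x ∈ U) :
    ringMap f hU ≫ X.presheaf.germ U x hx = baseToStalk f x := by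
  apply Spec.map_injective
  rw [Spec.map_comp, map_baseToStalk, map_ringMap, ← Category.assoc]
  congr 1
  exact hU.fromSpecStalk_eq_fromSpecStalk hx

theorem comap_ringMap {U : X.Opens} (hU : IsAffineOpen U) (x : X) (hx : x ∈ U) :
    (hU.primeIdealOf ⟨x, hx⟩).asIdeal.comap (ringMap f hU).hom = (f x).asIdeal := by
  have h1 : Spec.map (ringMap f hU) (hU.primeIdealOf ⟨x, hx⟩) = f x := by
    rw [map_ringMap]
    exact congrArg f (hU.fromSpec_primeIdealOf ⟨x, hx⟩)
  exact congrArg PrimeSpectrum.asIdeal h1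

theorem finiteType_ringMap [LocallyOfFiniteType f] {U : X.Opens} (hU : IsAffineOpen U) :
    (ringMap f hU).hom.FiniteType := by
  rw [← HasRingHomProperty.Spec_iff (P := @LocallyOfFiniteType), map_ringMap]
  infer_instance

theorem primeIdealOf_le {U : X.Opens} (hU : IsAffineOpen U) (x y : X) (hx : x ∈ U) (hy : y ∈ U)
    (h : x ⤳ y) : (hU.primeIdealOf ⟨x, hx⟩).asIdeal ≤ (hU.primeIdealOf ⟨y, hy⟩).asIdeal := by
  have h1 : hU.primeIdealOf ⟨x, hx⟩ ⤳ hU.primeIdealOf ⟨y, hy⟩ := by
    refine hU.fromSpec.isOpenEmbedding.isInducing.specializes_iff.1 ?_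
    have e1 : hU.fromSpec (hU.primeIdealOf ⟨x, hx⟩) = x := hU.fromSpec_primeIdealOf ⟨x, hx⟩
    have e2 : hU.fromSpec (hU.primeIdealOf ⟨y, hy⟩) = y := hU.fromSpec_primeIdealOf ⟨y, hy⟩
    rw [e1, e2]
    exact h
  exact (PrimeSpectrum.le_iff_specializes _ _).mpr h1

/-- The residue field at `x` is algebraic over `R`. -/
def AlgRes (x : X) : Prop :=
  ∀ c : X.residueField x, ∃ g : R[X], g ≠ 0 ∧ g.eval₂ (baseToResidue f x).hom c = 0

/-- A point with algebraic residue field has no proper specialization in the generic fibre. -/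
theorem eq_of_specializes_of_algRes [IsDomain R] {x z : X} (h : x ⤳ z) (hz : (f z).asIdeal = ⊥)
    (hx : AlgRes f x) : z = x := by
  let χ : X.presheaf.stalk z →+* X.residueField x :=
    (X.residue x).hom.comp (X.presheaf.stalkSpecializes h).hom
  have hχ : ∀ r : R, χ ((baseToStalk f z).hom r) = (baseToResidue f x).hom r := by
    intro r
    rw [← baseToStalk_residue, ← baseToStalk_stalkSpecializes f h]
    rfl
  have hunit : ∀ a : R, a ≠ 0 → IsUnit ((baseToStalk f z).hom a) := by
    intro a ha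
    by_contra hcon
    have h1 : (baseToStalk f z).hom a ∈ maximalIdeal (X.presheaf.stalk z) := (mem_maximalIdeal _).2 hcon
    have h2 : a ∈ (maximalIdeal (X.presheaf.stalk z)).comap (baseToStalk f z).hom := h1
    rw [comap_baseToStalk_maximalIdeal, hz] at h2
    exact ha h2
  have hlocal : ∀ c : X.presheaf.stalk z, c ∈ maximalIdeal (X.presheaf.stalk z) →
      (X.presheaf.stalkSpecializes h).hom c ∈ maximalIdeal (X.presheaf.stalk x) := by
    intro c hc
    by_contra hcon
    have hz0 : χ c ≠ 0 := fun h0 => hcon ((residue_eq_zero_iff _).mp h0)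
    obtain ⟨g, hg0, hg⟩ := hx (χ c)
    -- remove the factors `X`
    obtain ⟨n, g', hg', rfl⟩ : ∃ (n : ℕ) (g' : R[X]), g'.coeff 0 ≠ 0 ∧ g = Polynomial.X ^ n * g' := by
      obtain ⟨g', h1, h2⟩ := Polynomial.exists_eq_pow_rootMultiplicity_mul_and_not_dvd g hg0 0
      rw [C_0, sub_zero] at h1 h2
      exact ⟨_, g', fun h3 => h2 (X_dvd_iff.2 h3), h1⟩
    rw [eval₂_mul, eval₂_pow, eval₂_X] at hg
    have hg1 : g'.eval₂ (baseToResidue f x).hom (χ c) = 0 := by
      rcases mul_eq_zero.1 hg with h1 | h1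
      · exact absurd h1 (pow_ne_zero _ hz0)
      · exact h1
    let w : X.presheaf.stalk z := g'.eval₂ (baseToStalk f z).hom c
    have hw : χ w = 0 := by
      rw [← hg1]
      refine (Polynomial.hom_eval₂ g' (baseToStalk f z).hom χ c).trans ?_
      congr 1
      ext r
      exact hχ r
    have hwu : IsUnit w := by
      have h1 : w = (baseToStalk f z).hom (g'.coeff 0) + c * g'.divX.eval₂ (baseToStalk f z).hom c := by
        change g'.eval₂ (baseToStalk f z).hom c = _
        conv_lhs => rw [← Polynomial.divX_mul_X_add g']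
        rw [eval₂_add, eval₂_mul, eval₂_X, eval₂_C]
        ring
      rw [h1]
      by_contra hnu
      have h2 : (baseToStalk f z).hom (g'.coeff 0) + c * g'.divX.eval₂ (baseToStalk f z).hom c ∈
        maximalIdeal (X.presheaf.stalk z) := (mem_maximalIdeal _).2 hnu
      have h3 : (baseToStalk f z).hom (g'.coeff 0) ∈ maximalIdeal (X.presheaf.stalk z) := by
        have h4 := Ideal.sub_mem _ h2 (Ideal.mul_mem_right (g'.divX.eval₂ (baseToStalk f z).hom c) _ hc)
        rwa [add_sub_cancel_right] at h4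
      exact (mem_maximalIdeal _).1 h3 (hunit _ hg')
    exact (hwu.map χ).ne_zero hw
  -- conclude
  have hcp : Spec.map (X.presheaf.stalkSpecializes h) (closedPoint (X.presheaf.stalk x)) =
        closedPoint (X.presheaf.stalk z) := by
    apply PrimeSpectrum.ext
    change Ideal.comap (X.presheaf.stalkSpecializes h).hom
      (maximalIdeal (X.presheaf.stalk x)) = maximalIdeal _
    symm
    refine (maximalIdeal.isMaximal _).eq_of_le ?_ (fun c hc => hlocal c hc)
    exact (Ideal.IsPrime.comap _).ne_top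
  have h1 : X.fromSpecStalk z (Spec.map (X.presheaf.stalkSpecializes h)
      (closedPoint (X.presheaf.stalk x))) = x := by
    have h2 := Scheme.SpecMap_stalkSpecializes_fromSpecStalk h
    have h3 : (Spec.map (X.presheaf.stalkSpecializes h) ≫ X.fromSpecStalk z)
      (closedPoint (X.presheaf.stalk x)) = x := by
      rw [h2]
      exact Scheme.fromSpecStalk_closedPoint
    exact h3
  rw [← h1, hcp]
  exact Scheme.fromSpecStalk_closedPoint.symm

theorem algRes_of_isAlgebraic [IsDomain R] {U : X.Opens} (hU : IsAffineOpen U) (x : X) (hx : x ∈ U)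
    (h : letI := (ringMap f hU).hom.toAlgebra
      Algebra.IsAlgebraic R (Γ(X, U) ⧸ (hU.primeIdealOf ⟨x, hx⟩).asIdeal)) : AlgRes f x := by
  intro c
  let _ : Algebra R Γ(X, U) := (ringMap f hU).hom.toAlgebra
  let _ : Algebra R (X.residueField x) := (baseToResidue f x).hom.toAlgebra
  have hr : ∀ r : R, (X.residue x).hom ((X.presheaf.germ U x hx).hom ((ringMap f hU).hom r)) =
      (baseToResidue f x).hom r := by
    intro r
    rw [← baseToStalk_residue, ← ringMap_germ f hU x hx]
    rfl
  let ψ : Γ(X, U) →ₐ[R] X.residueField x :=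
    { (X.residue x).hom.comp (X.presheaf.germ U x hx).hom with
      commutes' := fun r => hr r }
  have hψ : ∀ a, ψ a = (X.residue x).hom ((X.presheaf.germ U x hx).hom a) := fun a => rfl
  let _ := TopCat.Presheaf.algebra_section_stalk X.presheaf (⟨x, hx⟩ : U)
  have hloc := hU.isLocalization_stalk ⟨x, hx⟩
  have hker : ∀ a, a ∈ (hU.primeIdealOf ⟨x, hx⟩).asIdeal → ψ a = 0 := by
    intro a ha
    rw [hψ]
    exact (residue_eq_zero_iff _).2
      ((IsLocalization.AtPrime.to_map_mem_maximal_iff _ (hU.primeIdealOf ⟨x, hx⟩).asIdeal a).2 ha)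
  let ψ' : (Γ(X, U) ⧸ (hU.primeIdealOf ⟨x, hx⟩).asIdeal) →ₐ[R] X.residueField x :=
    Ideal.Quotient.liftₐ _ ψ hker
  have halg : ∀ a, IsAlgebraic R (ψ a) := by
    intro a
    have h1 : ψ a = ψ' (Ideal.Quotient.mk _ a) := rfl
    rw [h1]
    exact (h.isAlgebraic _).algHom ψ'
  obtain ⟨s, rfl⟩ := X.residue_surjective x c
  obtain ⟨⟨b, t⟩, hbt⟩ := IsLocalization.surj (hU.primeIdealOf ⟨x, hx⟩).asIdeal.primeCompl s
  have ht0 : ψ t ≠ 0 := by
    rw [hψ]
    intro h0
    exact t.2 ((IsLocalization.AtPrime.to_map_mem_maximal_iff _ (hU.primeIdealOf ⟨x, hx⟩).asIdeal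
      (t : Γ(X, U))).1 ((residue_eq_zero_iff _).1 h0))
  have hst : X.residue x s * ψ t = ψ b := by
    have h1 := congrArg (X.residue x).hom hbt
    rw [map_mul] at h1
    exact h1
  have hs : X.residue x s = ψ b * (ψ t)⁻¹ := by
    rw [← hst, mul_inv_cancel_right₀ ht0]
  have : IsAlgebraic R (X.residue x s) := by
    rw [hs]
    exact (halg b).mul (halg t).inv
  obtain ⟨g, hg, hg'⟩ := this
  exact ⟨g, hg, hg'⟩

end K479.HorPt
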