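import Groth.Agent.Dix.Cast1
import Groth.Agent.Dix.Cast4
import Groth.Agent.Dix.CastLocal

/-!
# Sections of the square of an ideal generated by two sections

`koszul`: `I` an invertible ideal of `W` generated by two global sections `u, v`, `H^1(W, O_W) = 0`. Then every global
section of `I ⊗ I` is, as a function, of the form `a u + b v` with `a, b` global sections of `I`.
-/

set_option autoImplicit false
set_option backward.isDefEq.respectTransparency false
universe u

open CategoryTheory CategoryTheory.Limits AlgebraicGeometry TopologicalSpace Opposite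

namespace K479.Kosz

open Groth.Agent Groth.Agent.Fdesc.LocGen Groth.Agent.Fdesc Groth.Agent.Ega2 Groth.Agent.CohqB.AmpleH1
open Groth.Agent.Dix Groth.Agent.Dix.Cast4 Groth.Agent.Dix.Cast1
open Groth.Agent.PerfA.IdealModule Groth.Agent.Ega1.IdealGen

variable {W : Scheme.{u}}

/-- Gluing of two sections. -/
theorem glueM (M : W.Modules) {U V : W.Opens} (h : U ⊔ V = ⊤) (a : Γ(M, U)) (b : Γ(M, V))
    (hab : res M (inf_le_left : U ⊓ V ≤ U) a = res M (inf_le_right : U ⊓ V ≤ V) b) :
    ∃ c : Γ(M, ⊤), res M le_top c = a ∧ res M le_top c = b := by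
  let T : Bool → W.Opens := fun i => match i with
    | true => U
    | false => V
  let s : ∀ i, Γ(M, T i) := fun i => match i with
    | true => a
    | false => b
  have hcov : (⊤ : W.Opens) ≤ ⨆ i, T i := by
    rw [← h]
    exact sup_le (le_iSup T true) (le_iSup T false)
  obtain ⟨t, ht⟩ := res_glue M T (fun _ => le_top) hcov s (by
    rintro (_ | _) (_ | _)
    · rfl
    · have h1 := congr(res M (le_inf inf_le_right inf_le_left : V ⊓ U ≤ U ⊓ V) $hab)
      rw [res_res, res_res] at h1
      exact h1.symm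
    · exact hab
    · rfl)
  exact ⟨t, ht true, ht false⟩

variable (D : W.IdealSheafData)

/-- Two sections of the same rank one ideal. -/
theorem val_smul_comm {U : W.Opens} (x y : Γ(ClSub.idealMod D, U)) : val D x • y = val D y • x := by
  apply val_injective
  rw [val_smul, val_smul, mul_comm]

theorem val_sub {U : W.Opens} (x y : Γ(ClSub.idealMod D, U)) : val D (x - y) = val D x - val D y :=
  map_sub ((ClSub.idealModι D).app U).hom _ _

theorem val_add {U : W.Opens} (x y : Γ(ClSub.idealMod D, U)) : val D (x + y) = val D x + val D y :=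
  map_add ((ClSub.idealModι D).app U).hom _ _

theorem val_neg {U : W.Opens} (x : Γ(ClSub.idealMod D, U)) : val D (-x) = -val D x :=
  map_neg ((ClSub.idealModι D).app U).hom _

theorem koszul (hH1 : Subsingleton (Coh.HH W (Coh.structureModule W) 1))
    (u v : Γ(ClSub.idealMod D, ⊤))
    (hgen : CohB1.genLocus _ (homOf u) ⊔ CohB1.genLocus _ (homOf v) = ⊤)
    (g : Γ(CohB1.tensorMod (ClSub.idealMod D) (ClSub.idealMod D), ⊤)) :
    ∃ a b : Γ(ClSub.idealMod D, ⊤),
      (ev (ClSub.idealModι D) (ClSub.idealMod D)).app ⊤ g = val D a • u + val D b • v := by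
  set U := CohB1.genLocus _ (homOf u) with hUdef
  set V := CohB1.genLocus _ (homOf v) with hVdef
  have hu : IsGen (res (ClSub.idealMod D) (le_top : U ≤ ⊤) u) := by
    have := isGen_sec_genLocus (homOf u)
    rwa [sec_homOf] at this
  have hv : IsGen (res (ClSub.idealMod D) (le_top : V ≤ ⊤) v) := by
    have := isGen_sec_genLocus (homOf v)
    rwa [sec_homOf] at this
  have hvO : IsGen (res (ClSub.idealMod D) (le_top : U ⊓ V ≤ ⊤) v) := by
    have := hv.res (inf_le_right : U ⊓ V ≤ V)
    rwa [res_res] at this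
  have huO : IsGen (res (ClSub.idealMod D) (le_top : U ⊓ V ≤ ⊤) u) := by
    have := hu.res (inf_le_left : U ⊓ V ≤ U)
    rwa [res_res] at this
  obtain ⟨α, hα⟩ := (tmul_right_bijective (ClSub.idealMod D) hu (le_refl U)).2 (res _ le_top g)
  obtain ⟨β, hβ⟩ := (tmul_right_bijective (ClSub.idealMod D) hv (le_refl V)).2 (res _ le_top g)
  simp only [res_refl] at hα hβ
  obtain ⟨x, hx⟩ := hvO.exists_eq (res (ClSub.idealMod D) inf_le_left α)
  have hxβ : x • res (ClSub.idealMod D) (le_top : U ⊓ V ≤ ⊤) u = res (ClSub.idealMod D) inf_le_right β := by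
    apply (tmul_right_bijective (ClSub.idealMod D) hvO (le_refl _)).1
    simp only [res_refl]
    have h1 := congr(res _ (inf_le_left : U ⊓ V ≤ U) $hα)
    have h2 := congr(res _ (inf_le_right : U ⊓ V ≤ V) $hβ)
    rw [res_tmul, res_res, res_res] at h1 h2
    rw [h2, ← h1, hx]
    obtain ⟨ρ, hρ⟩ := hvO.exists_eq (res (ClSub.idealMod D) (le_top : U ⊓ V ≤ ⊤) u)
    rw [hρ, smul_tmul, smul_tmul, smul_tmul, tmul_smul]
  have hMV : ∀ x' : Γ(Coh.structureModule W, U ⊓ V),
      ∃ (y : Γ(Coh.structureModule W, U)) (z : Γ(Coh.structureModule W, V)),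
      x' = res _ inf_le_left y - res _ inf_le_right z := by
    intro x'
    have h0 : CurvesB.MVOne.conn (Coh.toAb (Coh.structureModule W)) hgen x' = 0 :=
      Subsingleton.elim (α := Coh.HH W (Coh.structureModule W) 1) _ _
    exact (CurvesB.MVOne.conn_eq_zero_iff (Coh.toAb (Coh.structureModule W)) hgen x').1 h0
  obtain ⟨y, z, hyz⟩ : ∃ (y : Γ(W, U)) (z : Γ(W, V)), x = ores inf_le_left y - ores inf_le_right z :=
    hMV x
  clear hMV
  obtain ⟨a, ha1, ha2⟩ := glueM (ClSub.idealMod D) hgen (α - y • res (ClSub.idealMod D) le_top v) (-(z • res (ClSub.idealMod D) le_top v)) (by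
    rw [map_sub, map_neg, res_smul, res_smul, res_res, res_res, hx, hyz, sub_smul]
    abel)
  obtain ⟨b, hb1, hb2⟩ := glueM (ClSub.idealMod D) hgen (y • res (ClSub.idealMod D) le_top u) (β + z • res (ClSub.idealMod D) le_top u) (by
    rw [map_add, res_smul, res_smul, res_res, res_res, ← hxβ, hyz, sub_smul]
    abel)
  refine ⟨a, b, ext₂ (ClSub.idealMod D) hgen ?_ ?_⟩
  · have h1 : res (ClSub.idealMod D) (le_top : U ≤ ⊤) ((ev (ClSub.idealModι D) (ClSub.idealMod D)).app ⊤ g) = val D α • res (ClSub.idealMod D) le_top u := by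
      rw [← app_res, ← hα]
      exact ev_tmul (ClSub.idealModι D) (ClSub.idealMod D) α _
    rw [h1, map_add, res_smul, res_smul, ← val_res', ← val_res', ha1, hb1, val_sub, val_smul, val_smul, sub_smul,
      mul_smul, mul_smul, val_smul_comm D (res (ClSub.idealMod D) _ u)]
    abel
  · have h1 : res (ClSub.idealMod D) (le_top : V ≤ ⊤) ((ev (ClSub.idealModι D) (ClSub.idealMod D)).app ⊤ g) = val D β • res (ClSub.idealMod D) le_top v := by
      rw [← app_res, ← hβ]
      exact ev_tmul (ClSub.idealModι D) (ClSub.idealMod D) β _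
    rw [h1, map_add, res_smul, res_smul, ← val_res', ← val_res', ha2, hb2, val_add, val_neg, val_smul, val_smul,
      add_smul, neg_smul, mul_smul, mul_smul, val_smul_comm D (res (ClSub.idealMod D) _ u)]
    abel

end K479.Kosz
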