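import Groth.Agent.ArSurf.K479.RelMin
import Groth.Agent.ArSurf.K480.Contr
import Groth.Agent.Models.H52.ContrStep

/-!
# Existence of minimal desingularizations
-/

set_option autoImplicit false
universe u
open AlgebraicGeometry CategoryTheory CategoryTheory.Limits IsLocalRing TopologicalSpace

namespace K479.MinDesing

open Groth.Agent Groth.Agent.Dix Groth.Agent.Dix.GenFibre Groth.Agent.Dix.ExcPts Groth.Agent.Dix.FibreMin
open Groth.Agent.Dix.MinusCurve Groth.Agent.Models.H52.ContrStep K479.RelMin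

variable {R : Type u} [CommRing R] [IsDomain R] [IsDiscreteValuationRing R]

/-- A contraction of a (-1)-curve lowers the number of components of the closed fibre. -/
theorem ncard_minSet_lt {X Y : Over (Spec (CommRingCat.of R))} (hX : ArSurf.IsArithSurface R X)
    (hY : ArSurf.IsArithSurface R Y) (f : X ⟶ Y) (E : MinusCurve X.left) (y : Y.left)
    (hy : IsClosed ({y} : Set Y.left)) (h1 : Set.range (E.ι ≫ f.left) = {y})
    (hiso : IsIso (f.left ∣_ (⟨{y}ᶜ, hy.isOpen_compl⟩ : Y.left.Opens))) :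
    (minSet Y).ncard < (minSet X).ncard := by
  obtain ⟨-, hXint, -, hXflat, hXproj⟩ := id hX
  obtain ⟨-, hYint, hYdim, hYflat, hYproj⟩ := id hY
  have hXp : IsProper X.hom := isProper_of_isProjectiveOver hXproj
  have hYp : IsProper Y.hom := isProper_of_isProjectiveOver hYproj
  have hyc : ∀ e, f.left (E.ι e) = y := fun e => by
    have h2 : (E.ι ≫ f.left) e ∈ Set.range (E.ι ≫ f.left) := ⟨e, rfl⟩
    rw [h1] at h2
    exact h2
  obtain ⟨t, ht⟩ := IsDiscreteValuationRing.exists_irreducible R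
  have htm : t ∈ IsLocalRing.maximalIdeal R := by
    rw [IsLocalRing.mem_maximalIdeal, mem_nonunits_iff]
    exact ht.not_isUnit
  have hEs : ∀ e, X.hom (E.ι e) = closedPoint R := fun e => by
    have h3 := MinusDisjoint490.mem_asIdeal_of_isProper (E.ι ≫ X.hom) htm e
    rcases Contr.asIdeal_eq_bot_or (X.hom (E.ι e)) with h4 | h4
    · change t ∈ (X.hom (E.ι e)).asIdeal at h3
      rw [h4] at h3
      exact absurd h3 ht.ne_zero
    · exact h4
  obtain ⟨a, b, hab⟩ := MinimalUnique.exists_ne E.k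
  have hys : Y.hom y = closedPoint R := by
    rw [← hyc a, ← hEs a, ← Over.w f, Scheme.Hom.comp_apply]
  have hyn : y ∉ minSet Y := by
    rintro ⟨-, h3⟩
    obtain ⟨y', h4, h5, h6⟩ := RelDisj.exists_specializes_ne hYdim y hy hys
    exact h5 (h3 y' h4 (by rw [h6, hys]))
  have hηn : E.ι (genericPoint (CohB1.ProjSpace 1 E.k)) ∈ minSet X := by
    obtain ⟨c, hc⟩ : ∃ c, genericPoint (CohB1.ProjSpace 1 E.k) ≠ c := by
      by_cases h : genericPoint (CohB1.ProjSpace 1 E.k) = a
      · exact ⟨b, by rw [h]; exact hab⟩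
      · exact ⟨a, h⟩
    refine isMinPt_of_ne hX (x := E.ι c) ?_ ?_ (hEs _)
    · exact ((genericPoint_spec (CohB1.ProjSpace 1 E.k)).specializes trivial).map E.ι.continuous
    · intro h
      exact hc (E.ι.isClosedEmbedding.injective h)
  let T : Set X.left := {z | z ∈ minSet X ∧ f.left z ∈ minSet Y}
  have hT : T ⊂ minSet X := by
    refine ⟨fun z hz => hz.1, fun h => ?_⟩
    have h3 := (h hηn).2
    rw [hyc] at h3
    exact hyn h3
  have hfin := minSet_finite X
  have h3 : minSet Y ⊆ f.left '' T := by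
    intro z' hz'
    have hz'y : z' ∈ (⟨{y}ᶜ, hy.isOpen_compl⟩ : Y.left.Opens) := fun h => hyn (h ▸ hz')
    obtain ⟨w, hw⟩ := (f.left ∣_ (⟨{y}ᶜ, hy.isOpen_compl⟩ : Y.left.Opens)).surjective ⟨z', hz'y⟩
    have hwz : f.left w.1 = z' := by
      have h5 := congrArg Subtype.val hw
      rwa [morphismRestrict_base_coe] at h5
    have hws : X.hom w.1 = closedPoint R := by
      rw [← Over.w f, Scheme.Hom.comp_apply, hwz]
      exact hz'.1
    refine ⟨w.1, ⟨⟨hws, ?_⟩, by rw [hwz]; exact hz'⟩, hwz⟩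
    intro v hv hvs
    have h5 : f.left v ⤳ f.left w.1 := hv.map f.left.continuous
    rw [hwz] at h5
    have h6 : f.left v = z' := hz'.2 _ h5 (by
      rw [hz'.1, ← hws, ← hvs, ← Over.w f, Scheme.Hom.comp_apply])
    exact (Dix.BirIso.inj f.left _ hiso v w.1 (by rw [h6]; exact hz'y) (h6.trans hwz.symm))
  calc (minSet Y).ncard ≤ (f.left '' T).ncard :=
        Set.ncard_le_ncard h3 ((hfin.subset hT.subset).image _)
    _ ≤ T.ncard := Set.ncard_image_le (hfin.subset hT.subset)
    _ < (minSet X).ncard := Set.ncard_lt_ncard hT hfin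

omit [IsDomain R] [IsDiscreteValuationRing R] in
theorem isProper_left {X Y : Over (Spec (CommRingCat.of R))} (f : X ⟶ Y) [IsProper X.hom] [IsProper Y.hom] :
    IsProper f.left := by
  have : IsProper (f.left ≫ Y.hom) := by rw [Over.w f]; infer_instance
  exact IsProper.of_comp f.left Y.hom

/-- One contraction step over a normal surface. -/
theorem exists_step {X Y : Over (Spec (CommRingCat.of R))} [IsIntegral Y.left]
    (hdim : topologicalKrullDim Y.left = 2) [IsProper Y.hom]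
    (hX : ArSurf.IsArithSurface R X) (g : X ⟶ Y) (U : Y.left.Opens) (hU : (U : Set Y.left).Nonempty)
    (hiso : IsIso (g.left ∣_ U)) (E : MinusCurve X.left) (hE : Contracted g.left E.support) :
    ∃ (X' : Over (Spec (CommRingCat.of R))) (f : X ⟶ X') (g' : X' ⟶ Y) (U' : Y.left.Opens),
      ArSurf.IsArithSurface R X' ∧ f ≫ g' = g ∧ (U' : Set Y.left).Nonempty ∧ IsIso (g'.left ∣_ U') ∧
      (minSet X').ncard < (minSet X).ncard := by
  obtain ⟨hXreg, hXint, hXdim, hXflat, hXproj⟩ := id hX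
  have hXp : IsProper X.hom := isProper_of_isProjectiveOver hXproj
  obtain ⟨X', f, y, hy, hX', h1, h2, h3⟩ := CastMain.wp5 R X hX E.k E.ι E.eff E.deg
  obtain ⟨hXreg', hXint', hXdim', hXflat', hXproj'⟩ := id hX'
  have hXp' : IsProper X'.hom := isProper_of_isProjectiveOver hXproj'
  have hN : IsLocallyNoetherian X.left := LocallyOfFiniteType.isLocallyNoetherian X.hom
  have hN' : IsLocallyNoetherian X'.left := LocallyOfFiniteType.isLocallyNoetherian X'.hom
  have hfp := isProper_left f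
  have hgp := isProper_left g
  have hbir : IsBir f.left := K480.Bir.isBir_of_restrict f.left
    ⟨_, ⟨genericPoint X'.left, K480.Contr.genericPoint_ne hXdim' y hy⟩, h3⟩
  have hnor' : ∀ q : X'.left, IsIntegrallyClosed (X'.left.presheaf.stalk q) := fun q => by
    have := hXreg' q
    exact Groth.Agent.CurvesC.RegNormal.isIntegrallyClosed _
  obtain ⟨a, -⟩ := MinimalUnique.exists_ne E.k
  have himg : f.left '' Set.range E.ι = {y} := by
    rw [← h1, ← Set.range_comp]
    rfl
  have hpre : f.left ⁻¹' {y} = Set.range E.ι := by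
    have h4 : f.left ⁻¹' {y}ᶜ = (Set.range E.ι)ᶜ := h2
    rw [Set.preimage_compl] at h4
    exact compl_injective h4
  obtain ⟨p, hp⟩ := hE
  have hgE : g.left '' Set.range E.ι = {p} := by
    apply Set.Subset.antisymm hp
    rintro _ rfl
    exact ⟨E.ι a, ⟨a, rfl⟩, hp ⟨E.ι a, ⟨a, rfl⟩, rfl⟩⟩
  have hpc : IsClosed ({p} : Set Y.left) := by
    rw [← hgE]
    exact g.left.isClosedMap _ E.ι.isClosedEmbedding.isClosed_range
  obtain ⟨g'₀, hg'₀⟩ := K480.Rigid.exists_desc hnor' f.left g.left hbir (Set.range E.ι)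
    (by rw [himg, hpre]) (⟨{y}ᶜ, hy.isOpen_compl⟩ : X'.left.Opens) (by rw [himg]; rfl) h3
    (by rw [hgE]; exact Set.finite_singleton _) (by
      rw [hgE]
      rintro _ rfl
      exact hpc)
  have hg'w : g'₀ ≫ Y.hom = X'.hom := by
    apply K480.Rigid.eq_of_comp_eq hnor' f.left hbir
    rw [← Category.assoc, hg'₀, Over.w f, Over.w g]
  let g' : X' ⟶ Y := Over.homMk g'₀ hg'w
  have hg' : f ≫ g' = g := Over.OverMorphism.ext hg'₀
  have hg'y : g'.left y = p := by
    have h4 : f.left (E.ι a) = y := by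
      have h5 : f.left (E.ι a) ∈ f.left '' Set.range E.ι := ⟨_, ⟨a, rfl⟩, rfl⟩
      rw [himg] at h5
      exact h5
    have h6 : g.left (E.ι a) = p := hp ⟨E.ι a, ⟨a, rfl⟩, rfl⟩
    rw [← h4, ← h6, ← hg', Over.comp_left, Scheme.Hom.comp_apply]
  refine ⟨X', f, g', U ⊓ ⟨{p}ᶜ, hpc.isOpen_compl⟩, hX', hg', ?_, ?_,
    ncard_minSet_lt hX hX' f E y hy h1 h3⟩
  · refine ⟨genericPoint Y.left, ?_, K480.Contr.genericPoint_ne hdim p hpc⟩
    obtain ⟨u, hu⟩ := hU
    exact ((genericPoint_spec Y.left).mem_open_set_iff U.isOpen).2 ⟨u, trivial, hu⟩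
  · set U' : Y.left.Opens := U ⊓ ⟨{p}ᶜ, hpc.isOpen_compl⟩ with hU'
    have h4 : IsIso (g.left ∣_ U') := Contr.isIso_restrict_of_le g.left (inf_le_left : U' ≤ U)
    have h5 : g'.left ⁻¹ᵁ U' ≤ (⟨{y}ᶜ, hy.isOpen_compl⟩ : X'.left.Opens) := by
      rintro x hx (rfl : x = y)
      have h6 : g'.left x ∈ ({p}ᶜ : Set Y.left) := hx.2
      exact h6 hg'y
    have h6 : IsIso (f.left ∣_ (g'.left ⁻¹ᵁ U')) := Contr.isIso_restrict_of_le f.left h5
    have h7 : IsIso ((f.left ≫ g'.left) ∣_ U') := by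
      have h8 : f.left ≫ g'.left = g.left := hg'₀
      rw [h8]; exact h4
    rw [morphismRestrict_comp] at h7
    exact @IsIso.of_isIso_comp_left _ _ _ _ _ (f.left ∣_ (g'.left ⁻¹ᵁ U')) (g'.left ∣_ U') h6 h7

/-- Contracting all the (-1)-curves over a normal surface. -/
theorem exists_minimal {Y : Over (Spec (CommRingCat.of R))} [IsIntegral Y.left]
    (hdim : topologicalKrullDim Y.left = 2) [IsProper Y.hom] (n : ℕ) :
    ∀ (X : Over (Spec (CommRingCat.of R))) (_ : ArSurf.IsArithSurface R X) (g : X ⟶ Y) (U : Y.left.Opens)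
      (_ : (U : Set Y.left).Nonempty) (_ : IsIso (g.left ∣_ U)) (_ : (minSet X).ncard = n),
      ∃ (Z : Over (Spec (CommRingCat.of R))) (g' : Z ⟶ Y) (U' : Y.left.Opens),
        ArSurf.IsArithSurface R Z ∧ (U' : Set Y.left).Nonempty ∧ IsIso (g'.left ∣_ U') ∧
        ∀ E : MinusCurve Z.left, ¬ Contracted g'.left E.support := by
  induction n using Nat.strong_induction_on with
  | _ n ih =>
  intro X hX g U hU hiso hn
  by_cases hE : ∃ E : MinusCurve X.left, Contracted g.left E.support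
  · obtain ⟨E, hE⟩ := hE
    obtain ⟨X', f, g', U', hX', -, hU', hiso', hlt⟩ := exists_step hdim hX g U hU hiso E hE
    rw [hn] at hlt
    exact ih _ hlt X' hX' g' U' hU' hiso' rfl
  · push Not at hE
    exact ⟨X, g, U, hX, hU, hiso, hE⟩

end K479.MinDesing
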