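import Groth.Prelude.Def_ArSurf
import Groth.Agent.CurvesB.DimOneTop
import Groth.Agent.CycB.PushLocal
import Groth.Agent.Ega1.ReducedSub
import Groth.Agent.Dix.QFSurfaceAlg
import Mathlib.AlgebraicGeometry.ZariskisMainTheorem

/-!
# Specializations inside fibres, quasi-finite points, vertical curves

* `quasiFiniteAt_of_pairs`: a point without proper specialization or generization in its fibre is a quasi-finite point.
* `eq_of_quasiFiniteAt`: the converse.
* `exists_vertComp_of_pair`: a proper specialization `a ⤳ b` in the closed fibre of a surface over a discrete valuation ring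
  gives a vertical prime divisor with generic point `a`.
-/

set_option autoImplicit false
universe u

open AlgebraicGeometry CategoryTheory CategoryTheory.Limits IsLocalRing TopologicalSpace

namespace K479.Pair

/-- In a Noetherian sober space a point without proper generizations and specializations is open. -/
theorem isOpen_singleton {T : Type*} [TopologicalSpace T] [NoetherianSpace T] [QuasiSober T] (x : T)
    (hx : ∀ z, x ⤳ z → z = x) (h : ∀ z, z ⤳ x → z = x) : IsOpen ({x} : Set T) := by
  have hxc : IsClosed ({x} : Set T) := by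
    rw [← closure_eq_iff_isClosed]
    refine Set.Subset.antisymm ?_ subset_closure
    intro z hz
    exact hx z (specializes_iff_mem_closure.2 hz)
  have hfin : (irreducibleComponents T).Finite := NoetherianSpace.finite_irreducibleComponents
  have key : ∀ Z ∈ irreducibleComponents T, x ∈ Z → Z = {x} := by
    intro Z hZ hxZ
    have h1 := hZ.1.isGenericPoint_genericPoint (isClosed_of_mem_irreducibleComponents Z hZ)
    have h2 := h _ (h1.specializes hxZ)
    rw [← h1.def, h2, hxc.closure_eq]
  have hcompl : ({x}ᶜ : Set T) = ⋃ Z ∈ (irreducibleComponents T \ {{x}}), Z := by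
    ext t
    simp only [Set.mem_compl_iff, Set.mem_singleton_iff, Set.mem_iUnion, Set.mem_sdiff, exists_prop]
    constructor
    · intro ht
      refine ⟨irreducibleComponent t, ⟨irreducibleComponent_mem_irreducibleComponents t, fun h1 => ?_⟩,
        mem_irreducibleComponent⟩
      have : t ∈ ({x} : Set T) := h1 ▸ mem_irreducibleComponent
      exact ht this
    · rintro ⟨Z, ⟨hZ, hZx⟩, htZ⟩ rfl
      exact hZx (key Z hZ htZ)
  rw [← isClosed_compl_iff, hcompl]
  exact (hfin.subset Set.sdiff_subset).isClosed_biUnion fun Z hZ => isClosed_of_mem_irreducibleComponents Z hZ.1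

/-- A point which has no proper generization or specialization in its fibre is isolated in its fibre. -/
theorem quasiFiniteAt_of_pairs {X Y : Scheme.{u}} (f : X ⟶ Y) [LocallyOfFiniteType f] [QuasiCompact f] (x : X)
    (h : ∀ z, f z = f x → (x ⤳ z ∨ z ⤳ x) → z = x) : f.QuasiFiniteAt x := by
  have h1 : LocallyOfFiniteType (f.fiberToSpecResidueField (f x)) := by
    exact MorphismProperty.of_isPullback (P := @LocallyOfFiniteType)
      (IsPullback.of_hasPullback f (Y.fromSpecResidueField (f x))) inferInstance
  have h2 : IsLocallyNoetherian (f.fiber (f x)) :=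
    LocallyOfFiniteType.isLocallyNoetherian (f.fiberToSpecResidueField (f x))
  have h3 : IsNoetherian (f.fiber (f x)) := { }
  rw [Scheme.Hom.quasiFiniteAt_iff_isOpen_singleton_asFiber]
  have hι : f.fiberι (f x) (f.asFiber x) = x := by simp
  apply isOpen_singleton
  · intro z hz
    have h5 := hz.map (f.fiberι (f x)).continuous
    rw [hι] at h5
    have h6 : f.fiberι (f x) z = x := h _ (f.fiberHomeo (f x) z).2 (Or.inl h5)
    exact (f.fiberι (f x)).isEmbedding.injective (h6.trans hι.symm)
  · intro z hz
    have h5 := hz.map (f.fiberι (f x)).continuous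
    rw [hι] at h5
    have h6 : f.fiberι (f x) z = x := h _ (f.fiberHomeo (f x) z).2 (Or.inr h5)
    exact (f.fiberι (f x)).isEmbedding.injective (h6.trans hι.symm)

theorem eq_of_quasiFiniteAt {X Y : Scheme.{u}} (f : X ⟶ Y) [LocallyOfFiniteType f] (x : X)
    (hx : f.QuasiFiniteAt x) (z : X) (hz : f z = f x) (h : x ⤳ z ∨ z ⤳ x) : z = x := by
  have h1 := hx.isClopen_singleton_asFiber
  let z' : f.fiber (f x) := (f.fiberHomeo (f x)).symm ⟨z, hz⟩
  have hz' : f.fiberι (f x) z' = z := by
    have h2 : f.fiberHomeo (f x) z' = ⟨z, hz⟩ := (f.fiberHomeo (f x)).apply_symm_apply _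
    have h3 := congrArg Subtype.val h2
    exact h3
  have hι : f.fiberι (f x) (f.asFiber x) = x := by simp
  have h4 : z' = f.asFiber x := by
    rcases h with h | h
    · have h5 : f.asFiber x ⤳ z' := by
        refine (f.fiberι (f x)).isEmbedding.isInducing.specializes_iff.1 ?_
        rw [hι, hz']
        exact h
      have h6 := h5.mem_closed h1.1 (Set.mem_singleton _)
      exact h6
    · have h5 : z' ⤳ f.asFiber x := by
        refine (f.fiberι (f x)).isEmbedding.isInducing.specializes_iff.1 ?_
        rw [hι, hz']
        exact h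
      have h6 := h5.mem_open h1.2 (Set.mem_singleton _)
      exact h6
  rw [← hz', h4, hι]

section surface

variable {R : Type u} [CommRing R] [IsDomain R] [IsDiscreteValuationRing R]
variable {X : Over (Spec (CommRingCat.of R))} [IsIntegral X.left] [LocallyOfFiniteType X.hom]

omit [IsDomain R] [IsDiscreteValuationRing R] [LocallyOfFiniteType X.hom] in
/-- No chain of four points in a surface. -/
theorem false_of_chain (hdim : topologicalKrullDim X.left ≤ 2) {a b c : X.left} (h₁ : genericPoint X.left ≠ a)
    (h₂ : a ⤳ b) (n₂ : a ≠ b) (h₃ : b ⤳ c) (n₃ : b ≠ c) : False :=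
  Groth.Agent.Dix.QFSurfaceAlg.false_of_chain hdim ((genericPoint_spec X.left).specializes trivial) h₂ h₃ h₁ n₂ n₃

/-- A proper specialization in the closed fibre gives a vertical prime divisor. -/
theorem exists_vertComp_of_pair (hdim : topologicalKrullDim X.left ≤ 2)
    (hgen : X.hom (genericPoint X.left) ≠ closedPoint R) {a b : X.left} (h : a ⤳ b) (hne : a ≠ b)
    (ha : X.hom a = closedPoint R) :
    ∃ Γ : ArSurf.VertComp R X, Set.range (Γ.ι.base : Γ.curve.left → X.left) = closure {a} := by
  have hN : IsLocallyNoetherian X.left := LocallyOfFiniteType.isLocallyNoetherian X.hom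
  have hcs : IsClosed ({closedPoint R} : Set (Spec (CommRingCat.of R))) :=
    (PrimeSpectrum.isClosed_singleton_iff_isMaximal _).2 (maximalIdeal.isMaximal R)
  obtain ⟨Z, i, hZ, hi, ζ, rfl, hζ⟩ := Groth.Agent.CycB.PushLocal.exists_integral_closedImmersion a
  have hrange : Set.range i = closure {a} := by
    apply subset_antisymm
    · rintro _ ⟨z, rfl⟩
      have := (_root_.genericPoint_specializes z).map i.continuous
      rw [hζ] at this
      exact this.mem_closure
    · refine closure_minimal ?_ i.isClosedEmbedding.isClosed_range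
      rintro _ rfl
      exact ⟨_, hζ⟩
  have hfib : ∀ z : Z, X.hom (i z) = closedPoint R := by
    intro z
    have h3 : closure {a} ⊆ X.hom ⁻¹' {closedPoint R} :=
      closure_minimal (by rintro _ rfl; exact ha) (hcs.preimage X.hom.continuous)
    exact h3 (hrange ▸ ⟨z, rfl⟩)
  have hcli : IsClosedImmersion (Spec.map (CommRingCat.ofHom (IsLocalRing.residue R))) :=
    IsClosedImmersion.spec_of_surjective _ IsLocalRing.residue_surjective
  obtain ⟨g, hg⟩ := Groth.Agent.Ega1.ReducedSub.exists_factor_of_range_subset (i ≫ X.hom)
    (Spec.map (CommRingCat.ofHom (IsLocalRing.residue R))) (by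
      rintro _ ⟨z, rfl⟩
      refine ⟨closedPoint (ResidueField R), ?_⟩
      rw [Scheme.Hom.comp_apply, hfib z]
      exact IsLocalRing.comap_closedPoint (IsLocalRing.residue R))
  have hηne : ∀ z : Z, genericPoint X.left ≠ i z := by
    intro z hz
    apply hgen
    rw [hz]
    exact hfib z
  refine ⟨⟨Over.mk g, i, hi, hZ, ?_, hg.symm⟩, hrange⟩
  change topologicalKrullDim Z = 1
  rw [Groth.Agent.CurvesB.DimOneTop.topologicalKrullDim_eq_one_iff]
  constructor
  · obtain ⟨b', hb'⟩ : b ∈ Set.range i := by
      rw [hrange]
      exact specializes_iff_mem_closure.1 h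
    refine ⟨genericPoint Z, b', _root_.genericPoint_specializes b', ?_⟩
    intro hb
    apply hne
    rw [← hζ, ← hb', hb]
  · intro x
    by_contra hcon
    push Not at hcon
    obtain ⟨⟨y₁, hy₁, hne₁⟩, ⟨y₂, hy₂, hne₂⟩⟩ := hcon
    exact false_of_chain hdim (hηne y₂) (hy₂.map i.continuous)
      (fun h => hne₂ (i.isClosedEmbedding.injective h)) (hy₁.map i.continuous)
      (fun h => hne₁ (i.isClosedEmbedding.injective h).symm)

end surface

end K479.Pair
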