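import Groth.Agent.ArSurf.K480.Rigid
import Groth.Agent.ArSurf.K480.SurfDim
import Groth.Agent.Dix.MinimalUnique
import Groth.Agent.Variety.K430.BirLoc
import Groth.Agent.Models.H54.HorCartier
import Groth.Agent.Mor.K386.Loc
import Groth.Agent.ArSurf.K479.Contr

/-!
# Surfaces over a normal surface: generic fibres, isolated points, disjointness of (-1)-curves
-/

set_option autoImplicit false
universe u
open AlgebraicGeometry CategoryTheory CategoryTheory.Limits IsLocalRing TopologicalSpace

namespace K479.RelDisj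

open Groth.Agent Groth.Agent.Dix Groth.Agent.Dix.GenFibre Groth.Agent.Dix.ExcPts
open Groth.Agent.CycB.LocQuot Groth.Agent.Divis.StalkPrime Groth.Agent.Dix.MinusCurve

variable {R : Type u} [CommRing R] [IsDomain R] [IsDiscreteValuationRing R]

/-- There is a closed point over the closed point. -/
theorem exists_closed (Y : Over (Spec (CommRingCat.of R))) [IsProper Y.hom] [IsIntegral Y.left] :
    ∃ x : Y.left, IsClosed ({x} : Set Y.left) ∧ Y.hom x = closedPoint R := by
  have hc : CompactSpace Y.left := QuasiCompact.compactSpace_of_compactSpace Y.hom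
  obtain ⟨y, -, hy⟩ := Contr.exists_specializes_closed (X := Y) (genericPoint Y.left)
  obtain ⟨x, hx, hxc⟩ := IsClosed.exists_closed_singleton (X := Y.left)
    (S := Y.hom ⁻¹' {closedPoint R}) (Contr.isClosed_closedPoint.preimage Y.hom.continuous) ⟨y, hy⟩
  exact ⟨x, hxc, hx⟩

/-- A proper birational morphism onto a normal surface is an isomorphism on generic fibres. -/
theorem isIso_generic {X Y : Over (Spec (CommRingCat.of R))} [IsIntegral X.left] [IsIntegral Y.left]
    [Flat Y.hom] [IsProper Y.hom]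
    (hnor : ∀ y : Y.left, IsIntegrallyClosed (Y.left.presheaf.stalk y))
    (hdim : topologicalKrullDim Y.left = 2) (f : X ⟶ Y) [IsProper f.left] (U : Y.left.Opens)
    (hU : (U : Set Y.left).Nonempty) (hiso : IsIso (f.left ∣_ U)) :
    IsIso ((Neron.genericFibre R).map f) := by
  have hN : IsLocallyNoetherian Y.left := LocallyOfFiniteType.isLocallyNoetherian Y.hom
  have hc : CompactSpace Y.left := QuasiCompact.compactSpace_of_compactSpace Y.hom
  have hNo : IsNoetherian Y.left := { }
  obtain ⟨x, hx, hx'⟩ := exists_closed Y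
  have h1 : ∀ z, ∃ V : Y.left.Opens, genι Y z ∈ V ∧ IsIso (f.left ∣_ V) := fun z =>
    _root_.K430.BirLoc.exists_isIso_restrict f.left U hU hiso (genι Y z) (hnor _)
      (K480.SurfDim.ringKrullDim_stalk_le_one_of_generic hdim x hx
        (by rw [hx']; exact Contr.asIdeal_closedPoint_ne) _ (genι_mem Y z))
  choose V hV hV' using h1
  have h2 : IsIso (f.left ∣_ ⨆ z, V z) :=
    K386.Loc.restrict_iSup (MorphismProperty.isomorphisms Scheme.{u}) f.left V hV'
  exact MinimalUnique.isIso_genericFibre_map f (⨆ z, V z) fun z => Opens.mem_iSup.2 ⟨z, hV z⟩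

/-- A closed point of the closed fibre of a surface is not isolated in the closed fibre. -/
theorem exists_specializes_ne {Y : Over (Spec (CommRingCat.of R))} [IsIntegral Y.left]
    [Flat Y.hom] [IsProper Y.hom] (hdim : topologicalKrullDim Y.left = 2) (y : Y.left)
    (hy : IsClosed ({y} : Set Y.left)) (hy' : Y.hom y = closedPoint R) :
    ∃ y' : Y.left, y' ⤳ y ∧ y' ≠ y ∧ Y.hom y' = closedPoint R := by
  have hN : IsLocallyNoetherian Y.left := LocallyOfFiniteType.isLocallyNoetherian Y.hom
  have h2 := K480.SurfDim.ringKrullDim_stalk_eq_two hdim y hy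
    (by rw [hy']; exact Contr.asIdeal_closedPoint_ne)
  obtain ⟨ϖ, hϖ⟩ := IsDiscreteValuationRing.exists_irreducible R
  have hnu := (Models.H54.HorCartier.hom_eq_closedPoint_iff Y y hϖ).1 hy'
  let t := Models.stalkHom R Y y ϖ
  have hne : Ideal.span {t} ≤ maximalIdeal (Y.left.presheaf.stalk y) := by
    rw [Ideal.span_singleton_le_iff_mem]
    exact hnu
  obtain ⟨q, hq, hqm⟩ := Ideal.exists_minimalPrimes_le hne
  have hqp : q.IsPrime := hq.1.1
  have htq : t ∈ q := hq.1.2 (Ideal.mem_span_singleton_self t)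
  have hht : q.height ≤ 1 :=
    Ideal.height_le_one_of_isPrincipal_of_mem_minimalPrimes (Ideal.span {t}) q hq
  refine ⟨ptOf ⟨q, hqp⟩, ptOf_specializes _, ?_, ?_⟩
  · intro h
    have h3 : ringKrullDim (Y.left.presheaf.stalk (ptOf (⟨q, hqp⟩ : PrimeSpectrum (Y.left.presheaf.stalk y)))) = q.height := by
      rw [height_eq]
    rw [h, h2] at h3
    have h4 : (2 : ℕ∞) = q.height := WithBot.coe_injective h3
    rw [← h4] at hht
    exact absurd hht (by decide)
  · rw [Models.H54.HorCartier.hom_eq_closedPoint_iff Y _ hϖ]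
    rw [← Models.H54.HorCartier.stalkHom_specializes Y (ptOf_specializes (⟨q, hqp⟩ : PrimeSpectrum (Y.left.presheaf.stalk y)))]
    rw [← mem_ker_specMap_iff, ← primeOf_asIdeal, primeOf_ptOf]
    exact htq

/-- Two different (-1)-curves mapped to points by a morphism with connected fibres onto a surface are
disjoint. -/
theorem disjoint_rel {W Y : Over (Spec (CommRingCat.of R))} [IsIntegral W.left] [IsProper W.hom] [Flat W.hom]
    [IsIntegral Y.left] [Flat Y.hom] [IsProper Y.hom] (hdim : topologicalKrullDim Y.left = 2) (f : W ⟶ Y)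
    (hsurj : Function.Surjective f.left) (hconn : ∀ y, _root_.IsPreconnected (f.left ⁻¹' {y}))
    (E₁ E₂ : MinusCurve W.left) (hne : E₁.support ≠ E₂.support)
    (h₁ : ∃ y, f.left '' E₁.support ⊆ {y}) (h₂ : ∃ y, f.left '' E₂.support ⊆ {y}) :
    Disjoint E₁.support E₂.support := by
  by_contra hint
  rw [Set.not_disjoint_iff] at hint
  obtain ⟨x, hx1, hx2⟩ := hint
  obtain ⟨y, h₁⟩ := h₁
  obtain ⟨y₂, h₂⟩ := h₂
  have hxy : f.left x = y := h₁ ⟨x, hx1, rfl⟩
  obtain rfl : y = y₂ := hxy.symm.trans (h₂ ⟨x, hx2, rfl⟩)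
  obtain ⟨t, ht⟩ := IsDiscreteValuationRing.exists_irreducible R
  have ht0 : t ≠ 0 := ht.ne_zero
  have htm : t ∈ IsLocalRing.maximalIdeal R := by
    rw [IsLocalRing.mem_maximalIdeal, mem_nonunits_iff]
    exact ht.not_isUnit
  have hfp : IsProper f.left := by
    have : IsProper (f.left ≫ Y.hom) := by rw [Over.w f]; infer_instance
    exact IsProper.of_comp f.left Y.hom
  have hln : IsLocallyNoetherian W.left := LocallyOfFiniteType.isLocallyNoetherian W.hom
  have hle : ∀ E : MinusCurve W.left, VertForm.prin W t ≤ E.ι.ker := by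
    intro E
    rw [VertGeom.le_ker_iff, MinusDisjoint490.mem_support_prin]
    exact MinusDisjoint490.mem_asIdeal_of_isProper (E.ι ≫ W.hom) htm
      (genericPoint (CohB1.ProjSpace 1 E.k))
  obtain ⟨m, J, hJ, hA, -, -, hd₁, hd₂⟩ := MinusNum490.numeric E₁ E₂ hne
    (VertForm.genOn_prin (X := W) ht0) (VertForm.isEff_prin (X := W) ht0) (hle E₁) (hle E₂)
    ⟨x, hx1, hx2⟩
  have hsupp : ∀ x : W.left, x ∈ (VertForm.prin W t).support ↔ W.hom x = closedPoint R := by
    intro x
    rw [MinusDisjoint490.mem_support_prin]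
    constructor
    · intro h
      rcases Contr.asIdeal_eq_bot_or (W.hom x) with h3 | h3
      · rw [h3] at h
        exact absurd h ht0
      · exact h3
    · intro h
      rw [h]
      exact htm
  have hxs : W.hom x = closedPoint R := by
    rw [← hsupp]
    exact Scheme.IdealSheafData.support_antitone (hle E₁) ((MinusNum490.mem_range_iff E₁ x).1 hx1)
  have hfib : ∀ w : W.left, f.left w = y → W.hom w = closedPoint R := by
    intro w hw
    rw [← Over.w f, Scheme.Hom.comp_apply] at hxs ⊢
    rw [hw, ← hxy]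
    exact hxs
  have hys : Y.hom y = closedPoint R := by
    rw [← hxy, ← hxs, ← Over.w f, Scheme.Hom.comp_apply]
  have hcl : IsClosed ({y} : Set Y.left) := by
    have h3 : f.left '' E₁.support = {y} := by
      apply Set.Subset.antisymm h₁
      rintro _ rfl
      exact ⟨x, hx1, hxy⟩
    rw [← h3]
    exact f.left.isClosedMap _ E₁.ι.isClosedEmbedding.isClosed_range
  have hcov : ∀ w : W.left, W.hom w = closedPoint R →
      w ∈ Set.range E₁.ι ∪ Set.range E₂.ι ∨ w ∈ J.support := by
    intro w hw
    have h3 := (hsupp w).2 hw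
    rw [hA] at h3
    rcases MinusNum490.mem_support_mul h3 with h4 | h4
    · left
      rcases MinusNum490.mem_support_mul (MinusNum490.mem_support_pow h4) with h5 | h5
      · exact Or.inl ((MinusNum490.mem_range_iff E₁ w).2 h5)
      · exact Or.inr ((MinusNum490.mem_range_iff E₂ w).2 h5)
    · exact Or.inr h4
  have hempty : ∀ w : W.left, f.left w = y → w ∉ J.support := by
    intro w hw hwJ
    obtain ⟨z, -, hz1, hz2⟩ := (isPreconnected_closed_iff.1 (hconn y))
      (Set.range E₁.ι ∪ Set.range E₂.ι) (J.support : Set W.left)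
      (E₁.ι.isClosedEmbedding.isClosed_range.union E₂.ι.isClosedEmbedding.isClosed_range)
      J.support.isClosed (fun z hz => hcov z (hfib z hz)) ⟨x, hxy, Or.inl hx1⟩ ⟨w, hw, hwJ⟩
    exact hz1.elim (fun h => hd₁ z h hz2) (fun h => hd₂ z h hz2)
  obtain ⟨y', hsp, hne', hy's⟩ := exists_specializes_ne hdim y hcl hys
  obtain ⟨w', hw'⟩ := hsurj y'
  have hw's : W.hom w' = closedPoint R := by
    rw [← Over.w f, Scheme.Hom.comp_apply, hw']
    exact hy's
  have hw'J : w' ∈ J.support := by
    rcases hcov w' hw's with (h3 | h3) | h3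
    · exact absurd (hw'.symm.trans (h₁ ⟨w', h3, rfl⟩)) hne'
    · exact absurd (hw'.symm.trans (h₂ ⟨w', h3, rfl⟩)) hne'
    · exact h3
  have h5 : IsClosed (f.left '' (J.support : Set W.left)) := f.left.isClosedMap _ J.support.isClosed
  obtain ⟨w, hw, hwy⟩ := hsp.mem_closed h5 ⟨w', hw'J, hw'⟩
  exact hempty w hwy hw

end K479.RelDisj
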