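import Groth.Agent.ArSurf.K479.RelDisj
import Groth.Agent.Models.H51.RelMin

/-!
# Minimal desingularizations: the mapping property
-/

set_option autoImplicit false
universe u
open AlgebraicGeometry CategoryTheory CategoryTheory.Limits IsLocalRing TopologicalSpace

namespace K479.RelMin

open Groth.Agent Groth.Agent.Dix Groth.Agent.Dix.GenFibre Groth.Agent.Dix.ExcPts
open Groth.Agent.Dix.MinusCurve Groth.Agent.Dix.PointIdeal Groth.Agent.Ega4B.RegChain
open Groth.Agent.Dix.MinimalUnique

/-- Mapped to a point. -/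
def Contracted {W Y : Scheme.{u}} (f : W ⟶ Y) (S : Set W) : Prop := ∃ y : Y, f '' S ⊆ {y}

theorem Contracted.comp {W Y Z : Scheme.{u}} {f : W ⟶ Y} {S : Set W} (h : Contracted f S) (g : Y ⟶ Z) :
    Contracted (f ≫ g) S := by
  obtain ⟨y, hy⟩ := h
  refine ⟨g y, ?_⟩
  rintro _ ⟨w, hw, rfl⟩
  have h1 : f w = y := hy ⟨w, hw, rfl⟩
  rw [Scheme.Hom.comp_apply, h1]
  rfl

/-- Transport of a (-1)-curve contracted in `Y` along a chain of point blow-ups. -/
theorem exists_minusCurve_of_rchain {R : Type u} [CommRing R] [IsNoetherianRing R]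
    {Z X Y : Over (Spec (CommRingCat.of R))} {q : Z ⟶ X} {n : ℕ} (h : RChain q n)
    (hX : IsRegSurf R X) (g : X ⟶ Y)
    (hdisj : ∀ (W : Over (Spec (CommRingCat.of R))) (s : W ⟶ X) (m : ℕ), RChain s m →
      ∀ E₁ E₂ : MinusCurve W.left, E₁.support ≠ E₂.support → Contracted (s ≫ g).left E₁.support →
        Contracted (s ≫ g).left E₂.support → Disjoint E₁.support E₂.support)
    (E : MinusCurve Z.left) (hEY : Contracted (q ≫ g).left E.support)
    (hE : ¬ Contracted q.left E.support) :
    ∃ E' : MinusCurve X.left, E'.support = q.left '' E.support := by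
  induction h with
  | iso e he =>
    have : IsIso e.left := isIso_left e
    exact exists_minusCurve_of_iso e.left E
  | @step Z Z' X π r n z hπ hr ih =>
    obtain ⟨F, hF⟩ := MinusExists.exists_minusCurve_of_isRegBlow hπ
    have hFπ : Contracted π.left F.support := by
      refine ⟨z, ?_⟩
      rintro _ ⟨e, he, rfl⟩
      rw [hF] at he
      exact he
    have hne : E.support ≠ F.support := by
      intro heq
      apply hE
      rw [heq, Over.comp_left]
      exact hFπ.comp r.left
    have hd := hdisj Z (π ≫ r) (n + 1) (RChain.step π r n z hπ hr) E F hne hEY (by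
      rw [Category.assoc, Over.comp_left]
      exact hFπ.comp _)
    rw [hF] at hd
    have h1 := isIso_restrict_of_isBlowUp π.left z hπ.isClosed hπ.isBlowUp
    have hp := RChain.isProper_left hπ.source hπ.target π
    have hnoeth := RChain.isNoetherian hπ.target
    obtain ⟨E₂, hE₂⟩ := MinusMove980.exists_minusCurve_image π.left z hπ.isClosed h1 E hd
    have himg : (π ≫ r).left '' E.support = r.left '' (π.left '' E.support) := by
      rw [Set.image_image]
      rfl
    obtain ⟨E', hE'⟩ := ih hX g hdisj E₂ (by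
      obtain ⟨y, hy⟩ := hEY
      refine ⟨y, ?_⟩
      rw [hE₂]
      refine Set.Subset.trans ?_ hy
      rw [Category.assoc, Over.comp_left, Set.image_image]
      rintro _ ⟨w, hw, rfl⟩
      exact ⟨w, hw, rfl⟩) (by rw [Contracted, hE₂, ← himg]; exact hE)
    exact ⟨E', by rw [hE', hE₂, himg]⟩

variable {R : Type u} [CommRing R] [IsDomain R] [IsDiscreteValuationRing R]

/-- Mapping property of desingularizations without contracted (-1)-curves. -/
theorem exists_hom {X' X Y : Over (Spec (CommRingCat.of R))} (h₁ : IsRegSurf R X')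
    (h₂ : ArSurf.IsArithSurface R X) [IsProper Y.hom] (g' : X' ⟶ Y) (g : X ⟶ Y)
    [IsIso ((Neron.genericFibre R).map g)] [IsIso ((Neron.genericFibre R).map g')]
    (hdisj : ∀ (W : Over (Spec (CommRingCat.of R))) (s : W ⟶ X) (m : ℕ), RChain s m →
      ∀ E₁ E₂ : MinusCurve W.left, E₁.support ≠ E₂.support → Contracted (s ≫ g).left E₁.support →
        Contracted (s ≫ g).left E₂.support → Disjoint E₁.support E₂.support)
    (hemp : ∀ E : MinusCurve X.left, ¬ Contracted g.left E.support) :
    ∃ h : X' ⟶ X, h ≫ g = g' := by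
  classical
  have hR : ¬ IsField R := IsDiscreteValuationRing.not_isField R
  let P : ℕ → Prop := fun n => ∃ (Z : Over (Spec (CommRingCat.of R))) (r : Z ⟶ X') (q : Z ⟶ X), RChain r n ∧
      q ≫ g = r ≫ g'
  have hX₂ := isRegSurf_of_isArithSurface h₂
  have hP : ∃ n, P n := by
    obtain ⟨Z, r, n, q, h, hg⟩ := Ega4B.ElimMain.exists_elim h₁ h₂.2.2.2.2
      ((Neron.genericFibre R).map g' ≫ inv ((Neron.genericFibre R).map g))
    have hZ := (h.source h₁).flat
    refine ⟨n, Z, r, q, h, ?_⟩
    apply GenExtUniq.ext_of_genericFibre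
    rw [Functor.map_comp, Functor.map_comp, hg, Category.assoc, Category.assoc, IsIso.inv_hom_id,
      Category.comp_id]
  obtain ⟨Z, r, q, h, hg⟩ := Nat.find_spec hP
  by_cases hn : Nat.find hP = 0
  · have hr : IsIso r := isIso_of_rchain_zero h hn
    refine ⟨inv r ≫ q, ?_⟩
    rw [Category.assoc, hg, IsIso.inv_hom_id_assoc]
  · exfalso
    obtain ⟨m, hm⟩ := Nat.exists_eq_succ_of_ne_zero hn
    rw [hm] at h
    obtain ⟨Z', π, r', z, hπ, hr', hfac⟩ := h.exists_step
    have hiso := isIso_genericFibre_of_isRegBlow hR hπ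
    by_cases hc : ∃ x : X.left, q.left '' (π.left ⁻¹' {z}) ⊆ {x}
    · obtain ⟨q', hq'⟩ := exists_descend_over hπ q hc
      have hPm : P m := by
        refine ⟨Z', r', q', hr', ?_⟩
        have hZ' := hπ.target.flat
        apply GenExtUniq.ext_of_genericFibre
        rw [← cancel_epi ((Neron.genericFibre R).map π), ← Functor.map_comp, ← Functor.map_comp,
          ← Category.assoc, hq', hg, hfac, Category.assoc]
      have := Nat.find_min' hP hPm
      omega
    · have hiso' : IsIso ((Neron.genericFibre R).map q) := by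
        have h5 := isIso_genericFibre_of_rchain hR h
        have h6 : IsIso ((Neron.genericFibre R).map (q ≫ g)) := by
          rw [hg, Functor.map_comp]; infer_instance
        rw [Functor.map_comp] at h6
        exact IsIso.of_isIso_comp_right _ ((Neron.genericFibre R).map g)
      obtain ⟨N, hN⟩ := HasBlow.exists_rchain q hπ.source hX₂
      obtain ⟨E, hE⟩ := MinusExists.exists_minusCurve_of_isRegBlow hπ
      have hEY : Contracted (q ≫ g).left E.support := by
        rw [hg, hfac, Category.assoc, Over.comp_left]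
        refine Contracted.comp ?_ _
        refine ⟨z, ?_⟩
        rintro _ ⟨e, he, rfl⟩
        rw [hE] at he
        exact he
      obtain ⟨E', hE'⟩ := exists_minusCurve_of_rchain hN hX₂ g hdisj E hEY (by
        rw [Contracted, hE]; exact hc)
      apply hemp E'
      obtain ⟨y, hy⟩ := hEY
      refine ⟨y, ?_⟩
      rw [hE']
      rintro _ ⟨_, ⟨w, hw, rfl⟩, rfl⟩
      exact hy ⟨w, hw, rfl⟩

/-- Disjointness over a normal surface. -/
theorem disj_of_rchain {X Y : Over (Spec (CommRingCat.of R))} [IsIntegral Y.left]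
    (hnor : ∀ y : Y.left, IsIntegrallyClosed (Y.left.presheaf.stalk y))
    (hdim : topologicalKrullDim Y.left = 2) [Flat Y.hom] [IsProper Y.hom]
    (hX : IsRegSurf R X) (g : X ⟶ Y) [IsIso ((Neron.genericFibre R).map g)]
    (W : Over (Spec (CommRingCat.of R))) (s : W ⟶ X) (m : ℕ) (hs : RChain s m)
    (E₁ E₂ : MinusCurve W.left) (hne : E₁.support ≠ E₂.support)
    (h₁ : Contracted (s ≫ g).left E₁.support) (h₂ : Contracted (s ≫ g).left E₂.support) :
    Disjoint E₁.support E₂.support := by
  have hR : ¬ IsField R := IsDiscreteValuationRing.not_isField R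
  have hW := hs.source hX
  have i1 := hW.isIntegral
  have i2 := hW.proper
  have i3 := hW.flat
  have i4 := isIso_genericFibre_of_rchain hR hs
  have i5 : IsIso ((Neron.genericFibre R).map (s ≫ g)) := by
    rw [Functor.map_comp]; infer_instance
  have i6 : IsLocallyNoetherian W.left := LocallyOfFiniteType.isLocallyNoetherian W.hom
  have i7 : IsLocallyNoetherian Y.left := LocallyOfFiniteType.isLocallyNoetherian Y.hom
  have i8 : IsProper (s ≫ g).left := by
    have : IsProper ((s ≫ g).left ≫ Y.hom) := by rw [Over.w (s ≫ g)]; infer_instance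
    exact IsProper.of_comp (s ≫ g).left Y.hom
  have i9 := isDominant_of_isIso_genericFibre (s ≫ g)
  have hbir : IsBir (s ≫ g).left := ⟨i8, map_genericPoint _, isIso_stalkMap_genericPoint (s ≫ g)⟩
  exact RelDisj.disjoint_rel hdim (s ≫ g) (ExcPts.surjective _ hbir)
    (fun y => (K480.Rigid.isConnected_fibre hnor _ hbir y).isPreconnected) E₁ E₂ hne h₁ h₂

/-- A (-1)-curve is an exceptional curve of the first kind. -/
theorem isExcCurve {X : Scheme.{u}} (E : MinusCurve X) : Models.IsExcCurve E.ι := by
  refine ⟨E.eff, E.k, inferInstance, Iso.refl _, ?_⟩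
  have h1 := CastMain.pull_idc_eq E.ι E.eff E.deg
  rw [CastPic.idc, Grpsch.PicGrp.pull_mk, CastPic.o, Grpsch.PicGrp.mk_eq_iff] at h1
  obtain ⟨e⟩ := h1
  exact ⟨(Scheme.Modules.pullbackCongr (Category.id_comp E.ι)).app _ ≪≫ e⟩

end K479.RelMin
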