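import Groth.Agent.ArSurf.K479.Contr
import Groth.Agent.Dix.Cast0
import Groth.Agent.Ega1.AmpFam
import Groth.Agent.Ega1.GlobGenPt

/-!
Generating loci of sections and triviality of the restriction of an invertible module.
-/

set_option autoImplicit false
universe u
open AlgebraicGeometry CategoryTheory CategoryTheory.Limits

namespace K479.SecTriv

open Groth.Agent Groth.Agent.Fdesc.LocGen

variable {W X : Scheme.{u}}

/-- An invertible module is trivial along a morphism into the generating locus of a section. -/
theorem nonempty_iso_of_range (g : W ⟶ X) {L : X.Modules} (hL : PicF.IsInvertible L)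
    (t : Coh.structureModule X ⟶ L) (h : Set.range g ⊆ (CohB1.genLocus L t : Set X)) :
    Nonempty ((Scheme.Modules.pullback g).obj L ≅ Coh.structureModule W) := by
  have hg : CohB1.genLocus _ (pullHom g t) = ⊤ := by
    rw [Ega1.AmpFam.genLocus_pullHom g hL, eq_top_iff]
    rintro x -
    exact h ⟨x, rfl⟩
  have h1 := isGen_sec_genLocus (pullHom g t)
  rw [hg] at h1
  have h2 : IsIso (pullHom g t) := (isIso_iff_isGen _).2 h1
  exact ⟨(asIso (pullHom g t)).symm⟩

/-- If `L` is trivial along `g : W ⟶ X` and `Γ(W, ⊤)` is a field, a section of `L` generating at one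
point of the image of `g` generates along the image of `g`. -/
theorem range_subset_of_iso (g : W ⟶ X) {L : X.Modules} (hL : PicF.IsInvertible L)
    (t : Coh.structureModule X ⟶ L)
    (e : (Scheme.Modules.pullback g).obj L ≅ Coh.structureModule W) (hW : IsField Γ(W, ⊤))
    (w : W) (hw : g w ∈ CohB1.genLocus L t) :
    Set.range g ⊆ (CohB1.genLocus L t : Set X) := by
  have he : IsGen (sec e.inv ⊤) := (isIso_iff_isGen e.inv).1 inferInstance
  obtain ⟨a, ha⟩ := he.exists_eq (sec (pullHom g t) ⊤)
  have h1 := genLocus_inf_eq (pullHom g t) he ha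
  rw [inf_top_eq, Ega1.AmpFam.genLocus_pullHom g hL] at h1
  have ha0 : a ≠ 0 := by
    rintro rfl
    have h2 : w ∈ g ⁻¹ᵁ CohB1.genLocus L t := hw
    rw [h1, Scheme.basicOpen_zero] at h2
    exact h2
  obtain ⟨b, hb⟩ := hW.mul_inv_cancel ha0
  have hu : IsUnit a := IsUnit.of_mul_eq_one b hb
  rw [Scheme.basicOpen_of_isUnit _ hu] at h1
  rintro _ ⟨z, rfl⟩
  have h3 : z ∈ g ⁻¹ᵁ CohB1.genLocus L t := by rw [h1]; trivial
  exact h3

variable {R : Type u} [CommRing R] [IsDomain R]

theorem asIdeal_genPt (z : Spec (CommRingCat.of (FractionRing R))) :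
    (Neron.genPt R z).asIdeal = ⊥ := by
  have h2 : (show PrimeSpectrum (FractionRing R) from z).asIdeal = ⊥ := Ideal.eq_bot_of_prime _
  change Ideal.comap (algebraMap R (FractionRing R))
    (show PrimeSpectrum (FractionRing R) from z).asIdeal = ⊥
  rw [h2]
  exact Ideal.comap_bot_of_injective _ (IsFractionRing.injective R (FractionRing R))

/-- A section generating at all points of the generic fibre makes `L` of degree zero there. -/
theorem exists_notMem_of_degree (X : Over (Spec (CommRingCat.of R))) {L : X.left.Modules}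
    (hL : PicF.IsInvertible L)
    (hdeg : 0 < ArSurf.curveDeg (FractionRing R) ((Neron.genericFibre R).obj X).left
      ((Scheme.Modules.pullback (pullback.fst X.hom (Neron.genPt R))).obj L))
    (t : Coh.structureModule X.left ⟶ L) :
    ∃ x : X.left, (X.hom x).asIdeal = ⊥ ∧ x ∉ CohB1.genLocus L t := by
  by_contra hcon
  push Not at hcon
  obtain ⟨e⟩ := nonempty_iso_of_range (pullback.fst X.hom (Neron.genPt R)) hL t (by
    rintro _ ⟨z, rfl⟩
    refine hcon _ ?_
    have h1 : X.hom (pullback.fst X.hom (Neron.genPt R) z) =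
        Neron.genPt R (pullback.snd X.hom (Neron.genPt R) z) := by
      rw [← Scheme.Hom.comp_apply, ← Scheme.Hom.comp_apply, pullback.condition]
    rw [h1]
    exact asIdeal_genPt _)
  have h3 := Dix.Cast0.curveDeg_congr (FractionRing R)
    (X := ((Neron.genericFibre R).obj X).left) e
  rw [h3] at hdeg
  simp [ArSurf.curveDeg] at hdeg

end K479.SecTriv
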